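import Groth.Agent.Lib.CoalgH23.Basic
import Groth.Agent.Lib.Chevalley.Basic
import Groth.Prelude.Def_ComodDual
import Groth.Prelude.Def_ComodTens
import Mathlib.RingTheory.HopfAlgebra.Convolution
import Mathlib.RingTheory.Bialgebra.TensorProduct

/-!
# The contragredient comodule
-/

universe u v w w'

open TensorProduct HopfRep WithConv

noncomputable section

namespace Groth.Agent.CoalgH23

section Antipode

variable {k : Type u} [CommRing k] {A : Type v} [CommRing A] [HopfAlgebra k A]

theorem comul_antipode (a : A) :
    CoalgebraStruct.comul (R := k) (HopfAlgebraStruct.antipode (R := k) a) =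
      TensorProduct.map (HopfAlgebraStruct.antipode (R := k)) (HopfAlgebraStruct.antipode (R := k))
        (TensorProduct.comm k A A (CoalgebraStruct.comul (R := k) a)) := by
  let x₁ : WithConv (A →ₐ[k] A ⊗[k] A) := toConv Algebra.TensorProduct.includeLeft
  let x₂ : WithConv (A →ₐ[k] A ⊗[k] A) := toConv Algebra.TensorProduct.includeRight
  have h1 : x₁ * x₂ = toConv (Bialgebra.comulAlgHom k A) := by
    refine WithConv.ofConv_injective (AlgHom.ext fun b => ?_)
    rw [AlgHom.convMul_def]
    simp only [ofConv_toConv, AlgHom.comp_apply, Bialgebra.comulAlgHom_apply]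
    generalize CoalgebraStruct.comul (R := k) b = z
    induction z with
    | zero => simp
    | add p q hp hq => simp only [map_add, hp, hq]
    | tmul p q => simp [x₁, x₂]
  have h2 : (toConv (Bialgebra.comulAlgHom k A))⁻¹.ofConv a = (x₂⁻¹ * x₁⁻¹).ofConv a := by
    rw [← h1]
    exact congrArg (fun x : WithConv (A →ₐ[k] A ⊗[k] A) => x.ofConv a) (mul_inv_rev x₁ x₂)
  have e3 : (toConv (Bialgebra.comulAlgHom k A))⁻¹.ofConv a =
      CoalgebraStruct.comul (R := k) (HopfAlgebraStruct.antipode (R := k) a) := rfl
  rw [e3, AlgHom.convMul_def] at h2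
  rw [h2]
  simp only [ofConv_toConv, AlgHom.comp_apply, Bialgebra.comulAlgHom_apply]
  generalize CoalgebraStruct.comul (R := k) a = z
  clear e3 h2
  induction z with
  | zero => simp
  | add p q hp hq => simp only [map_add, hp, hq]
  | tmul p q =>
    show x₂⁻¹.ofConv p * x₁⁻¹.ofConv q = _
    show (1 : A) ⊗ₜ[k] HopfAlgebraStruct.antipode (R := k) p * (HopfAlgebraStruct.antipode (R := k) q ⊗ₜ[k] (1 : A)) = _
    simp [Algebra.TensorProduct.tmul_mul_tmul]

theorem antipode_antipode (a : A) :
    HopfAlgebraStruct.antipode (R := k) (HopfAlgebraStruct.antipode (R := k) a) = a := by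
  have h := congrArg (fun x : WithConv (A →ₐ[k] A) => x.ofConv a) (inv_inv (toConv (AlgHom.id k A) : WithConv (A →ₐ[k] A)))
  exact h

theorem isMul_dual {ι : Type w} [Fintype ι] [DecidableEq ι] {X : Matrix ι ι A} (hX : Chevalley.IsMul (k := k) X) :
    Chevalley.IsMul (k := k) (fun i j => HopfAlgebraStruct.antipode (R := k) (X j i)) where
  comul i j := by
    rw [comul_antipode, hX.comul, map_sum, map_sum]
    simp
  counit i j := by
    rw [HopfAlgebra.counit_antipode, hX.counit]
    by_cases h : i = j <;> simp [h, Ne.symm]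

theorem exists_dual {V : Type w} [AddCommGroup V] [Module k V] [Module.Free k V] [Module.Finite k V]
    (c : Comod k A V) : ∃ d : Comod k A (Module.Dual k V), ComodTens.Comod.IsDual c d := by
  classical
  letI := c
  rcases subsingleton_or_nontrivial k with hk | hk
  · have := Module.subsingleton k (Module.Dual k V)
    have := Module.subsingleton k A
    exact ⟨Comod.trivial k A _, fun f => LinearMap.ext fun v => Subsingleton.elim _ _⟩
  let e := Module.Free.chooseBasis k V
  let X := Chevalley.matrixOf (A := A) e
  refine ⟨ComodTens.Comod.ofEquiv e.dualBasis.equivFun.symm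
    (Chevalley.matComod (isMul_dual (Chevalley.isMul_matrixOf (A := A) e))), fun f => ?_⟩
  let d := ComodTens.Comod.ofEquiv e.dualBasis.equivFun.symm
    (Chevalley.matComod (isMul_dual (Chevalley.isMul_matrixOf (A := A) e)))
  let Φ : Module.Dual k V →ₗ[k] V →ₗ[k] A :=
    { toFun := ComodTens.dualCoactFun c
      map_add' := ComodTens.dualCoactFun_add c
      map_smul' := ComodTens.dualCoactFun_smul c }
  refine LinearMap.congr_fun (e.dualBasis.ext fun i => ?_ : dualTensorHom k V A ∘ₗ d.coact = Φ) f
  refine e.ext fun j => ?_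
  have h1 : d.coact (e.dualBasis i) =
      ∑ l, e.dualBasis l ⊗ₜ[k] HopfAlgebraStruct.antipode (R := k) (X i l) := by
    have hi : e.dualBasis.equivFun.symm (Pi.basisFun k _ i) = e.dualBasis i := by simp
    rw [← hi]
    refine (ComodTens.ofEquiv_coact_apply _ _ _).trans ?_
    change LinearMap.rTensor A _ (Chevalley.matCoact (k := k) _ (Pi.basisFun k _ i)) = _
    rw [Chevalley.matCoact_basis, map_sum]
    refine Finset.sum_congr rfl fun l _ => ?_
    simp [X]
  rw [LinearMap.comp_apply, h1, map_sum, LinearMap.sum_apply]
  change _ = ComodTens.dualCoactFun c (e.dualBasis i) (e j)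
  rw [ComodTens.dualCoactFun_apply_of_sum c _ Finset.univ (e j) (fun l => e l) (fun l => X l j)
    (Chevalley.coact_basis e j)]
  simp [e.dualBasis_apply_self, Finsupp.single_apply]

end Antipode

section Field

variable {k : Type u} [Field k] {A : Type v} [CommRing A] [HopfAlgebra k A]

theorem dual_actL {V : Type w} [AddCommGroup V] [Module k V] {c : Comod k A V} {d : Comod k A (Module.Dual k V)}
    (h : ComodTens.Comod.IsDual c d) (χ : A →ₗ[k] k) (f : Module.Dual k V) (v : V) :
    slice χ (d.coact f) v = f (slice (χ ∘ₗ HopfAlgebraStruct.antipode (R := k)) (c.coact v)) := by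
  have h1 : ∀ z : Module.Dual k V ⊗[k] A, slice χ z v = χ (dualTensorHom k V A z v) := by
    intro z
    induction z with
    | zero => simp
    | add a b ha hb => simp only [map_add, LinearMap.add_apply, ha, hb]
    | tmul a b => simp [mul_comm]
  rw [h1, h f, ComodTens.dualCoactFun_apply]
  generalize c.coact v = z
  induction z with
  | zero => simp
  | add a b ha hb => simp only [map_add, ha, hb]
  | tmul a b => simp [mul_comm]

end Field

end Groth.Agent.CoalgH23
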