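import Groth.Agent.Lib.CoalgH23.Simple
import Mathlib.LinearAlgebra.Dual.Lemmas

/-!
# Coefficient spaces of comodules and simple subcoalgebras
-/

universe u v w w'

open TensorProduct HopfRep WithConv

noncomputable section

namespace Groth.Agent.CoalgH23

/-- A simple module killed by the annihilator of a finite simple module is isomorphic to it. -/
theorem nonempty_equiv_of_annihilator {R : Type u} [Ring R] {S : Type v} [AddCommGroup S] [Module R S]
    [IsSimpleModule R S] {T : Type w} [AddCommGroup T] [Module R T] [IsSimpleModule R T]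
    {ι : Type*} [Finite ι] (e : ι → S) (h : ∀ χ : R, (∀ i, χ • e i = 0) → ∀ t : T, χ • t = 0) :
    Nonempty (T ≃ₗ[R] S) := by
  have := IsSimpleModule.nontrivial R T
  obtain ⟨t, ht⟩ := exists_ne (0 : T)
  let Φ : R →ₗ[R] (ι → S) := LinearMap.toSpanSingleton R _ e
  let F : LinearMap.range Φ →ₗ[R] T :=
    (Submodule.liftQ (LinearMap.ker Φ) (LinearMap.toSpanSingleton R T t) fun χ hχ => by
      rw [LinearMap.mem_ker]
      exact h χ (fun i => congrFun (LinearMap.mem_ker.1 hχ) i) t) ∘ₗ Φ.quotKerEquivRange.symm.toLinearMap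
  have hF : Function.Surjective F := by
    intro x
    have hsp : x ∈ Submodule.span R {t} := by
      rw [IsSimpleModule.span_singleton_eq_top R ht]; trivial
    obtain ⟨χ, rfl⟩ := Submodule.mem_span_singleton.1 hsp
    exact ⟨Φ.quotKerEquivRange (Submodule.Quotient.mk χ), by simp [F]⟩
  obtain ⟨s, hs⟩ := IsSemisimpleModule.lifting_property F hF LinearMap.id
  have hst : s t ≠ 0 := fun e => ht (by simpa [e] using (LinearMap.congr_fun hs t).symm)
  obtain ⟨i, hi⟩ : ∃ i, (s t).1 i ≠ 0 := by
    by_contra! hc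
    exact hst (Subtype.ext (funext hc))
  rcases LinearMap.bijective_or_eq_zero ((LinearMap.proj i) ∘ₗ (LinearMap.range Φ).subtype ∘ₗ s) with hb | hz
  · exact ⟨LinearEquiv.ofBijective _ hb⟩
  · exact absurd (LinearMap.congr_fun hz t) hi

/-- A two-sided ideal acting nontrivially on a finite simple module contains an element acting as the identity. -/
theorem exists_act_eq_id {R : Type u} [Ring R] {S : Type v} [AddCommGroup S] [Module R S] [IsSimpleModule R S]
    {ι : Type*} [Finite ι] (e : ι → S) (I : Submodule R R) (hI : ∀ χ ∈ I, ∀ r : R, χ * r ∈ I)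
    (hne : ∃ χ ∈ I, ∃ x : S, χ • x ≠ 0) : ∃ χ ∈ I, ∀ i, χ • e i = e i := by
  let Φ : R →ₗ[R] (ι → S) := LinearMap.toSpanSingleton R _ e
  obtain ⟨Q, hQ⟩ := exists_isCompl (I.map Φ)
  obtain ⟨a, ha, q, hq, heq⟩ := Submodule.mem_sup.1 (hQ.sup_eq_top ▸ Submodule.mem_top : e ∈ I.map Φ ⊔ Q)
  obtain ⟨χ, hχ, rfl⟩ := ha
  refine ⟨χ, hχ, fun i => ?_⟩
  let Z : Submodule R S :=
    { carrier := {x | ∀ ψ ∈ I, ψ • x = 0}
      add_mem' := fun {x y} hx hy ψ hψ => by rw [smul_add, hx ψ hψ, hy ψ hψ, add_zero]
      zero_mem' := fun ψ _ => smul_zero ψ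
      smul_mem' := fun r x hx ψ hψ => by rw [← mul_smul]; exact hx _ (hI ψ hψ r) }
  have hZ : Z = ⊥ := (IsSimpleOrder.eq_bot_or_eq_top Z).resolve_right fun h => by
    obtain ⟨ψ, hψ, x, hx⟩ := hne
    exact hx ((h.symm ▸ Submodule.mem_top : x ∈ Z) ψ hψ)
  have hq0 : q i ∈ Z := fun ψ hψ => by
    have h1 : ψ • q ∈ I.map Φ := by
      rw [show q = e - Φ χ from eq_sub_of_add_eq' heq, smul_sub]
      exact sub_mem ⟨ψ, hψ, rfl⟩ ⟨ψ * χ, hI ψ hψ χ, by rw [← smul_eq_mul, map_smul]⟩
    exact congrFun (Submodule.disjoint_def.1 hQ.disjoint _ h1 (Q.smul_mem ψ hq)) i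
  rw [hZ, Submodule.mem_bot] at hq0
  conv_rhs => rw [← heq]
  simp [hq0, Φ]

/-- A cyclic module killed by the annihilator of a finite simple module is semisimple. -/
theorem isSemisimpleModule_span_of_ann {R : Type u} [Ring R] {S : Type v} [AddCommGroup S] [Module R S]
    [IsSimpleModule R S] {V : Type w} [AddCommGroup V] [Module R V]
    {ι : Type*} [Finite ι] (e : ι → S) (v : V) (h : ∀ χ : R, (∀ i, χ • e i = 0) → χ • v = 0) :
    IsSemisimpleModule R ↥(Submodule.span R {v}) := by
  let Φ : R →ₗ[R] (ι → S) := LinearMap.toSpanSingleton R _ e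
  have hker : LinearMap.ker Φ ≤ LinearMap.ker (LinearMap.toSpanSingleton R V v) := fun χ hχ =>
    h χ fun i => congrFun (LinearMap.mem_ker.1 hχ) i
  let F : LinearMap.range Φ →ₗ[R] V :=
    (Submodule.liftQ (LinearMap.ker Φ) (LinearMap.toSpanSingleton R V v) hker) ∘ₗ Φ.quotKerEquivRange.symm.toLinearMap
  have hF : LinearMap.range F = Submodule.span R {v} := by
    rw [LinearEquiv.range_comp, Submodule.range_liftQ, LinearMap.range_toSpanSingleton]
  exact (LinearEquiv.ofEq _ _ hF).isSemisimpleModule_iff.1 (IsSemisimpleModule.range F)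

section Coef

variable {k : Type u} [Field k] {C : Type v} [AddCommGroup C] [Module k C] [Coalgebra k C]

local notation "ℛ" => WithConv (C →ₗ[k] k)

/-- Apply a functional to the left factor. -/
def lslice {V : Type w} [AddCommGroup V] [Module k V] (φ : V →ₗ[k] k) : V ⊗[k] C →ₗ[k] C :=
  (TensorProduct.lid k C).toLinearMap ∘ₗ φ.rTensor C

@[simp] theorem lslice_tmul {V : Type w} [AddCommGroup V] [Module k V] (φ : V →ₗ[k] k) (v : V) (c : C) :
    lslice φ (v ⊗ₜ[k] c) = φ v • c := by
  simp [lslice]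

theorem apply_lslice {V : Type w} [AddCommGroup V] [Module k V] (φ : V →ₗ[k] k) (χ : C →ₗ[k] k) (x : V ⊗[k] C) :
    χ (lslice φ x) = φ (slice χ x) := by
  induction x with
  | zero => simp
  | add a b ha hb => simp only [map_add, ha, hb]
  | tmul a c => simp [mul_comm]

theorem convMul_apply_slice (χ ψ : ℛ) (c : C) :
    (χ * ψ).ofConv c = χ.ofConv (slice ψ.ofConv (CoalgebraStruct.comul (R := k) c)) := by
  rw [LinearMap.convMul_def]
  simp only [WithConv.ofConv_toConv, LinearMap.comp_apply]
  generalize CoalgebraStruct.comul (R := k) c = z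
  induction z with
  | zero => simp
  | add a b ha hb => simp only [map_add, ha, hb]
  | tmul a b => simp [mul_comm]

/-- A subcoalgebra: the comultiplication lands in `B ⊗ B`. -/
def IsSubcoalg (B : Submodule k C) : Prop :=
  ∀ b ∈ B, CoalgebraStruct.comul (R := k) b ∈ LinearMap.range (TensorProduct.map B.subtype B.subtype)

/-- The functionals vanishing on `B`. -/
def Ann (B : Submodule k C) (χ : ℛ) : Prop := ∀ b ∈ B, χ.ofConv b = 0

theorem exists_ann {B : Submodule k C} {c : C} (hc : c ∉ B) : ∃ χ : ℛ, Ann B χ ∧ χ.ofConv c ≠ 0 := by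
  obtain ⟨f, hf, hle⟩ := Submodule.exists_le_ker_of_notMem hc
  exact ⟨toConv f, fun b hb => hle hb, hf⟩

theorem mem_range_map_of_mem {V : Type w} [AddCommGroup V] [Module k V] (E : Submodule k V) (B : Submodule k C)
    {x : V ⊗[k] C} (h1 : x ∈ LinearMap.range (B.subtype.lTensor V)) (h2 : x ∈ LinearMap.range (E.subtype.rTensor C)) :
    x ∈ LinearMap.range (TensorProduct.map E.subtype B.subtype) := by
  obtain ⟨p, hp⟩ := E.subtype.exists_leftInverse_of_injective (Submodule.ker_subtype E)
  obtain ⟨y, rfl⟩ := h1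
  refine ⟨p.rTensor B y, ?_⟩
  obtain ⟨z, hz⟩ := h2
  rw [← hz]
  have e : TensorProduct.map E.subtype B.subtype (p.rTensor B y) = (E.subtype ∘ₗ p).rTensor C (B.subtype.lTensor V y) := by
    rw [← LinearMap.comp_apply, LinearMap.map_comp_rTensor, ← LinearMap.comp_apply, LinearMap.rTensor_comp_lTensor]
  rw [e, ← hz, ← LinearMap.rTensor_comp_apply, LinearMap.comp_assoc, hp, LinearMap.comp_id]

theorem IsSubcoalg.ann_mul {B : Submodule k C} (hB : IsSubcoalg B) (χ ψ : ℛ) (h : Ann B χ ∨ Ann B ψ) :
    Ann B (χ * ψ) := by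
  intro b hb
  rw [convMul_apply_slice]
  obtain ⟨y, hy⟩ := hB b hb
  rw [← hy]
  clear hy
  induction y with
  | zero => simp
  | add p q hp hq => simp only [map_add, hp, hq, add_zero]
  | tmul p q => rcases h with h | h <;> simp [h p.1 p.2, h q.1 q.2]

theorem isSubcoalg_of_ann_mul {B : Submodule k C} (h : ∀ χ ψ : ℛ, Ann B χ ∨ Ann B ψ → Ann B (χ * ψ)) :
    IsSubcoalg B := by
  intro b hb
  refine mem_range_map_of_mem B B ((mem_range_lTensor_iff B _).2 fun ψ hψ => ?_) ((mem_range_rTensor_iff B _).2 fun ψ => ?_)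
  · refine (Module.forall_dual_apply_eq_zero_iff k _).1 fun φ => ?_
    have := h (toConv φ) (toConv ψ) (Or.inr hψ) b hb
    rwa [convMul_apply_slice] at this
  · by_contra hc
    obtain ⟨χ, hχ, hne⟩ := exists_ann hc
    have := h χ (toConv ψ) (Or.inl hχ) b hb
    rw [convMul_apply_slice] at this
    exact hne this

theorem IsSubcoalg.isSubcomod {B : Submodule k C} (hB : IsSubcoalg B) : IsSubcomod (k := k) (A := C) B := by
  intro b hb
  obtain ⟨y, hy⟩ := hB b hb
  refine ⟨B.subtype.lTensor B y, ?_⟩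
  rw [← LinearMap.comp_apply, LinearMap.rTensor_comp_lTensor]
  exact hy

variable {V : Type w} [AddCommGroup V] [Module k V] [Comod k C V]

/-- The coefficient space of a subspace of a comodule. -/
def coef (E : Submodule k V) : Submodule k C :=
  ⨆ φ : V →ₗ[k] k, (E.map (Comod.coact (k := k) (A := C))).map (lslice φ)

theorem lslice_mem_coef {E : Submodule k V} (φ : V →ₗ[k] k) {e : V} (he : e ∈ E) :
    lslice φ (Comod.coact (k := k) (A := C) e) ∈ coef (C := C) E :=
  Submodule.mem_iSup_of_mem φ ⟨_, ⟨e, he, rfl⟩, rfl⟩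

theorem ann_coef_iff {E : Submodule k V} {χ : ℛ} : Ann (coef E) χ ↔ ∀ e ∈ E, χ • e = 0 := by
  constructor
  · intro h e he
    refine (Module.forall_dual_apply_eq_zero_iff k _).1 fun φ => ?_
    rw [smul_def, ← apply_lslice]
    exact h _ (lslice_mem_coef φ he)
  · intro h c hc
    induction hc using Submodule.iSup_induction' with
    | mem φ x hx =>
      obtain ⟨_, ⟨e, he, rfl⟩, rfl⟩ := hx
      rw [apply_lslice, ← smul_def, h e he, map_zero]
    | zero => exact map_zero _
    | add a b _ _ iha ihb => rw [map_add, iha, ihb, add_zero]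

theorem coef_le_iff {E : Submodule k V} {D : Submodule k C} :
    coef E ≤ D ↔ ∀ e ∈ E, Comod.coact (k := k) (A := C) e ∈ LinearMap.range (D.subtype.lTensor V) := by
  constructor
  · intro h e he
    refine (mem_range_lTensor_iff D _).2 fun χ hχ => ?_
    exact ann_coef_iff.1 (fun c hc => hχ c (h hc) : Ann (coef E) (toConv χ)) e he
  · intro h c hc
    by_contra hcD
    obtain ⟨χ, hχ, hne⟩ := exists_ann hcD
    exact hne (ann_coef_iff.2 (fun e he => (mem_range_lTensor_iff D _).1 (h e he) χ.ofConv hχ) c hc)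

theorem isLeast_coef :
    IsLeast {D' : Submodule k C | ∀ e : V, Comod.coact (k := k) (A := C) e ∈ LinearMap.range (LinearMap.lTensor V D'.subtype)}
      (coef (⊤ : Submodule k V)) :=
  ⟨fun e => coef_le_iff.1 le_rfl e trivial, fun D' hD' => coef_le_iff.2 fun e _ => hD' e⟩

theorem smul_eq_zero_of_coact_mem {D : Submodule k C} {χ : ℛ} (hχ : Ann D χ) {v : V}
    (hv : Comod.coact (k := k) (A := C) v ∈ LinearMap.range (D.subtype.lTensor V)) : χ • v = 0 :=
  (mem_range_lTensor_iff D _).1 hv χ.ofConv hχ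

theorem isSubcoalg_coef {E : Submodule k V} (hE : IsSubcomod (k := k) (A := C) E) : IsSubcoalg (coef (C := C) E) :=
  isSubcoalg_of_ann_mul fun χ ψ h => ann_coef_iff.2 fun e he => by
    rcases h with h | h
    · rw [mul_smul]; exact ann_coef_iff.1 h _ (isSubcomod_iff.1 hE ψ e he)
    · rw [mul_smul, ann_coef_iff.1 h e he, smul_zero]

theorem coef_ne_bot {E : Submodule k V} (hE : E ≠ ⊥) : coef (C := C) E ≠ ⊥ := fun h => hE <| by
  refine eq_bot_iff.2 fun e he => ?_
  have h0 : Ann (coef (C := C) E) (1 : ℛ) := by rw [h]; intro c hc; simp [(Submodule.mem_bot k).1 hc]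
  simpa using ann_coef_iff.1 h0 e he

/-- The coefficient space of a simple subcomodule is a simple subcoalgebra. -/
theorem coef_minimal (E : Submodule ℛ V) [IsSimpleModule ℛ E] [Module.Finite k E]
    {B : Submodule k C} (hBD : B ≤ coef (E.restrictScalars k)) (hB : IsSubcoalg B) :
    B = ⊥ ∨ B = coef (E.restrictScalars k) := by
  refine or_iff_not_imp_right.2 fun hne => ?_
  obtain ⟨c, hc, hcB⟩ := SetLike.exists_of_lt (lt_of_le_of_ne hBD hne)
  obtain ⟨ψ₀, hψ₀, hc0⟩ := exists_ann hcB
  let I : Submodule ℛ ℛ :=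
    { carrier := {χ | Ann B χ}
      add_mem' := fun {x y} hx hy b hb => by simp [hx b hb, hy b hb]
      zero_mem' := fun b _ => by simp
      smul_mem' := fun r x hx => hB.ann_mul r x (Or.inr hx) }
  have hne' : ∃ χ ∈ I, ∃ x : E, χ • x ≠ 0 := by
    refine ⟨ψ₀, hψ₀, ?_⟩
    by_contra! h
    exact hc0 (ann_coef_iff.2 (fun e he => congrArg Subtype.val (h ⟨e, he⟩)) c hc)
  have : FiniteDimensional k (E.restrictScalars k) := ‹Module.Finite k E›
  let b' := Module.finBasis k (E.restrictScalars k)
  let e' : Fin (Module.finrank k (E.restrictScalars k)) → E := fun i => ⟨(b' i).1, (b' i).2⟩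
  obtain ⟨χ, hχ, hχe⟩ := exists_act_eq_id e' I (fun x hx r => hB.ann_mul x r (Or.inl hx)) hne'
  have hid : Ann (coef (E.restrictScalars k)) (χ - 1) := ann_coef_iff.2 fun e he => by
    have h1 : DistribSMul.toLinearMap k V χ ∘ₗ (E.restrictScalars k).subtype = (E.restrictScalars k).subtype :=
      b'.ext fun i => congrArg Subtype.val (hχe i)
    rw [sub_smul, one_smul, sub_eq_zero]
    exact LinearMap.congr_fun h1 ⟨e, he⟩
  refine eq_bot_iff.2 fun b hb => ?_
  refine (Submodule.mem_bot k).2 ((Module.forall_dual_apply_eq_zero_iff k _).1 fun φ => ?_)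
  have h1 := hB.ann_mul (toConv φ) χ (Or.inr hχ) b hb
  have h2 := (isSubcoalg_coef (isSubcomod_restrictScalars E)).ann_mul (toConv φ) (χ - 1) (Or.inr hid) b (hBD hb)
  rw [mul_sub, mul_one] at h2
  simpa [h1] using h2

theorem exists_simple_le {M : Submodule ℛ V} (hM : M ≠ ⊥) :
    ∃ E : Submodule ℛ V, E ≤ M ∧ IsSimpleModule ℛ E ∧ Module.Finite k E := by
  classical
  have hex : ∃ n : ℕ, ∃ E : Submodule ℛ V, E ≤ M ∧ E ≠ ⊥ ∧ Module.Finite k E ∧ Module.finrank k E = n := by
    obtain ⟨v, hv, hv0⟩ := Submodule.exists_mem_ne_zero_of_ne_bot hM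
    exact ⟨_, Submodule.span ℛ {v}, (Submodule.span_singleton_le_iff_mem v M).2 hv,
      by simpa using hv0, finite_span_singleton v, rfl⟩
  obtain ⟨E, hEM, hE0, hEf, hEn⟩ := Nat.find_spec hex
  refine ⟨E, hEM, isSimpleModule_iff_isAtom.2 ⟨hE0, fun W hW => ?_⟩, hEf⟩
  by_contra hW0
  have : FiniteDimensional k (E.restrictScalars k) := hEf
  have hlt : W.restrictScalars k < E.restrictScalars k :=
    lt_of_le_of_ne hW.le fun e => hW.ne (Submodule.restrictScalars_injective k ℛ V e)
  have hWf : Module.Finite k W := Submodule.finiteDimensional_of_le hlt.le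
  refine Nat.find_min hex (m := Module.finrank k W) ?_ ⟨W, hW.le.trans hEM, hW0, hWf, rfl⟩
  rw [← hEn]
  exact Submodule.finrank_lt_finrank_of_lt hlt

/-- A comodule killed by the annihilator of a simple comodule is semisimple. -/
theorem isSemisimpleModule_of_ann {S : Type w'} [AddCommGroup S] [Module ℛ S] [IsSimpleModule ℛ S]
    {ι : Type*} [Finite ι] (e : ι → S) (v : V) (h : ∀ χ : ℛ, (∀ i, χ • e i = 0) → χ • v = 0) :
    IsSemisimpleModule ℛ ↥(Submodule.span ℛ {v}) :=
  isSemisimpleModule_span_of_ann e v h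

end Coef

end Groth.Agent.CoalgH23

namespace Groth.Agent.CoalgH23

section Coef2

variable {k : Type u} [Field k] {C : Type v} [AddCommGroup C] [Module k C] [Coalgebra k C]
variable {V : Type w} [AddCommGroup V] [Module k V] [Comod k C V]

/-- A basis of a finite submodule over the dual algebra, seen inside it. -/
theorem exists_span_fin (E : Submodule (WithConv (C →ₗ[k] k)) V) [Module.Finite k E] :
    ∃ (n : ℕ) (e : Fin n → E), ∀ (χ : WithConv (C →ₗ[k] k)), (∀ i, χ • e i = 0) →
      Ann (coef (E.restrictScalars k)) χ := by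
  have : FiniteDimensional k (E.restrictScalars k) := ‹Module.Finite k E›
  let b := Module.finBasis k (E.restrictScalars k)
  refine ⟨_, fun i => ⟨(b i).1, (b i).2⟩, fun χ h => ann_coef_iff.2 fun e he => ?_⟩
  have h1 : DistribSMul.toLinearMap k V χ ∘ₗ (E.restrictScalars k).subtype = 0 :=
    b.ext fun i => congrArg Subtype.val (h i)
  exact LinearMap.congr_fun h1 ⟨e, he⟩

/-- A simple subcoalgebra is the coefficient space of a simple subcomodule. -/
theorem exists_simple_coef_eq {D : Submodule k C} (h0 : D ≠ ⊥) (hD : IsSubcoalg D)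
    (hDs : ∀ B : Submodule k C, B ≤ D → IsSubcoalg B → B = ⊥ ∨ B = D) :
    ∃ E : Submodule (WithConv (C →ₗ[k] k)) C, E.restrictScalars k ≤ D ∧
      IsSimpleModule (WithConv (C →ₗ[k] k)) E ∧ Module.Finite k E ∧ coef (E.restrictScalars k) = D := by
  obtain ⟨E, hED, hE, hEf⟩ := exists_simple_le (V := C) (M := ofSub D hD.isSubcomod) fun h => h0 (by
    rw [← ofSub_restrictScalars hD.isSubcomod, h]; exact Submodule.restrictScalars_bot k _ C)
  have hne : E.restrictScalars k ≠ ⊥ := ((isSimpleModule_iff_minimal E).1 hE).1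
  refine ⟨E, hED, hE, hEf, (hDs _ (coef_le_iff.2 fun e he => ?_) (isSubcoalg_coef (isSubcomod_restrictScalars E))).resolve_left
    (coef_ne_bot hne)⟩
  obtain ⟨y, hy⟩ := hD e (hED he)
  refine ⟨D.subtype.rTensor D y, ?_⟩
  rw [← LinearMap.comp_apply, LinearMap.lTensor_comp_rTensor]
  exact hy

theorem IsSubcoalg.smul_eq_zero {B : Submodule k C} (hB : IsSubcoalg B) {χ : WithConv (C →ₗ[k] k)} (hχ : Ann B χ)
    {b : C} (hb : b ∈ B) : χ • b = 0 := by
  refine smul_eq_zero_of_coact_mem hχ ?_
  obtain ⟨y, hy⟩ := hB b hb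
  refine ⟨B.subtype.rTensor B y, ?_⟩
  rw [← LinearMap.comp_apply, LinearMap.lTensor_comp_rTensor]
  exact hy

/-- Simple modules killed by the annihilators of different simple subcoalgebras are not isomorphic. -/
theorem eq_of_equiv {E E' : Submodule (WithConv (C →ₗ[k] k)) V} (f : E ≃ₗ[WithConv (C →ₗ[k] k)] E') :
    coef (C := C) (E.restrictScalars k) = coef (E'.restrictScalars k) := by
  have h : ∀ {A B : Submodule (WithConv (C →ₗ[k] k)) V}, (A ≃ₗ[WithConv (C →ₗ[k] k)] B) →
      coef (C := C) (A.restrictScalars k) ≤ coef (B.restrictScalars k) := by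
    intro A B f c hc
    by_contra hcB
    obtain ⟨χ, hχ, hne⟩ := exists_ann hcB
    refine hne (ann_coef_iff.2 (fun a ha => ?_) c hc)
    have h1 : f (χ • (⟨a, ha⟩ : A)) = 0 := by
      rw [map_smul]
      exact Subtype.ext (ann_coef_iff.1 hχ _ (f ⟨a, ha⟩).2)
    exact congrArg Subtype.val (f.map_eq_zero_iff.1 h1)
  exact le_antisymm (h f) (h f.symm)

end Coef2

end Groth.Agent.CoalgH23

namespace Groth.Agent.CoalgH23

/-- A submodule of a semisimple module is the sum of the simple submodules it contains. -/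
theorem le_iSup_simples {R : Type u} [Ring R] {M : Type v} [AddCommGroup M] [Module R M] [IsSemisimpleModule R M]
    (P : Submodule R M) : P ≤ ⨆ T : {T : Submodule R M // IsSimpleModule R T ∧ T ≤ P}, LinearMap.range T.1.subtype := by
  conv_lhs => rw [← sSup_atoms_le_eq P]
  refine sSup_le fun T hT => ?_
  refine le_trans ?_ (le_iSup _ ⟨T, isSimpleModule_iff_isAtom.2 hT.1, hT.2⟩)
  rw [Submodule.range_subtype]

/-- Sums of simple submodules with no common isomorphism type are disjoint. -/
theorem disjoint_iSup_simples {R : Type u} [Ring R] {M : Type v} [AddCommGroup M] [Module R M]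
    {ι : Type w} {κ : Type w'} (P : ι → Submodule R M) (Q : κ → Submodule R M)
    (hP : ∀ i, IsSimpleModule R (P i)) (hQ : ∀ i, IsSimpleModule R (Q i))
    (hne : ∀ i j, (P i ≃ₗ[R] Q j) → False) :
    Disjoint (⨆ i, LinearMap.range (P i).subtype) (⨆ j, LinearMap.range (Q j).subtype) :=
  disjoint_iSup_range (fun i => P i) (fun i => (P i).subtype) (fun j => Q j) (fun j => (Q j).subtype)
    fun i j => ⟨hne i j⟩

section Coef3

variable {k : Type u} [Field k] {C : Type v} [AddCommGroup C] [Module k C] [Coalgebra k C]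
variable {V : Type w} [AddCommGroup V] [Module k V] [Comod k C V]
variable {W : Type w'} [AddCommGroup W] [Module k W] [Comod k C W]

theorem finite_of_isSimpleModule (E : Submodule (WithConv (C →ₗ[k] k)) V) (hE : IsSimpleModule (WithConv (C →ₗ[k] k)) E) :
    Module.Finite k E := by
  obtain ⟨h0, h⟩ := (isSimpleModule_iff_minimal E).1 hE
  obtain ⟨v, hv, hv0⟩ := Submodule.exists_mem_ne_zero_of_ne_bot h0
  have hle : (Submodule.span (WithConv (C →ₗ[k] k)) {v}).restrictScalars k ≤ E.restrictScalars k :=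
    (Submodule.span_singleton_le_iff_mem v E).2 hv
  have hfin := finite_span_singleton (k := k) (C := C) v
  rcases h _ (isSubcomod_restrictScalars _) hle with e | e
  · refine absurd ?_ hv0
    have : v ∈ (Submodule.span (WithConv (C →ₗ[k] k)) {v}).restrictScalars k := Submodule.mem_span_singleton_self v
    rw [e] at this
    simpa using this
  · rw [e] at hfin
    exact hfin

theorem le_coef (E : Submodule k C) : E ≤ coef E := fun c hc => by
  have h : lslice (CoalgebraStruct.counit (R := k) (A := C)) (CoalgebraStruct.comul (R := k) c) = c := by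
    have h := congrArg (TensorProduct.lid k C) (LinearMap.congr_fun (Coalgebra.rTensor_counit_comp_comul (R := k) (A := C)) c)
    simpa [lslice] using h
  rw [← h]
  exact lslice_mem_coef _ hc

theorem nonempty_equiv_of_killed (E : Submodule (WithConv (C →ₗ[k] k)) W) [IsSimpleModule (WithConv (C →ₗ[k] k)) E]
    [Module.Finite k E] (T : Submodule (WithConv (C →ₗ[k] k)) V) [IsSimpleModule (WithConv (C →ₗ[k] k)) T]
    (h : ∀ χ : WithConv (C →ₗ[k] k), Ann (coef (E.restrictScalars k)) χ → ∀ t ∈ T, χ • t = 0) :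
    Nonempty (T ≃ₗ[WithConv (C →ₗ[k] k)] E) := by
  obtain ⟨n, e, he⟩ := exists_span_fin E
  exact nonempty_equiv_of_annihilator e fun χ hχ t => Subtype.ext (h χ (he χ hχ) t.1 t.2)

/-- The comodule structure on a subcomodule. -/
@[reducible] def subComod (M : Submodule (WithConv (C →ₗ[k] k)) V) : Comod k C (M.restrictScalars k) := by
  let N := M.restrictScalars k
  have hJ : Function.Injective (N.subtype.rTensor C) :=
    Module.Flat.rTensor_preserves_injective_linearMap _ N.injective_subtype
  let c : N →ₗ[k] N ⊗[k] C := (LinearEquiv.ofInjective _ hJ).symm.toLinearMap ∘ₗ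
    ((Comod.coact (k := k) (A := C)) ∘ₗ N.subtype).codRestrict _ fun x => isSubcomod_restrictScalars M x x.2
  have hc : ∀ x : N, N.subtype.rTensor C (c x) = Comod.coact (k := k) (A := C) (x : V) := fun x =>
    congrArg Subtype.val ((LinearEquiv.ofInjective _ hJ).apply_symm_apply
      (((Comod.coact (k := k) (A := C)) ∘ₗ N.subtype).codRestrict _ (fun x => isSubcomod_restrictScalars M x x.2) x))
  refine { coact := c, coassoc := ?_, counit_comp := ?_ }
  · refine LinearMap.ext fun x => ?_
    apply Module.Flat.rTensor_preserves_injective_linearMap (M := C ⊗[k] C) N.subtype N.injective_subtype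
    have h1 : ∀ z : N ⊗[k] C, N.subtype.rTensor (C ⊗[k] C) (TensorProduct.assoc k N C C (c.rTensor C z)) =
        TensorProduct.assoc k V C C ((Comod.coact (k := k) (A := C)).rTensor C (N.subtype.rTensor C z)) := by
      intro z
      induction z with
      | zero => simp
      | add a b ha hb => simp only [map_add, ha, hb]
      | tmul a b =>
        simp only [LinearMap.rTensor_tmul, Submodule.subtype_apply]
        rw [← hc a]
        generalize c a = y
        induction y with
        | zero => simp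
        | add p q hp hq => simp only [TensorProduct.add_tmul, map_add, hp, hq]
        | tmul p q => simp
    have h2 : ∀ z : N ⊗[k] C, N.subtype.rTensor (C ⊗[k] C) ((CoalgebraStruct.comul (R := k) (A := C)).lTensor N z) =
        (CoalgebraStruct.comul (R := k) (A := C)).lTensor V (N.subtype.rTensor C z) := by
      intro z
      rw [← LinearMap.comp_apply, LinearMap.rTensor_comp_lTensor, ← LinearMap.comp_apply (f := (CoalgebraStruct.comul (R := k) (A := C)).lTensor V), LinearMap.lTensor_comp_rTensor]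
    simp only [LinearMap.comp_apply, LinearEquiv.coe_coe]
    rw [h1, h2, hc]
    exact LinearMap.congr_fun (Comod.coassoc (k := k) (A := C) (V := V)) (x : V)
  · refine LinearMap.ext fun x => ?_
    apply Module.Flat.rTensor_preserves_injective_linearMap (M := k) N.subtype N.injective_subtype
    simp only [LinearMap.comp_apply]
    rw [← LinearMap.comp_apply, LinearMap.rTensor_comp_lTensor, ← LinearMap.lTensor_comp_rTensor,
      LinearMap.comp_apply, hc]
    simpa using LinearMap.congr_fun (Comod.counit_comp (k := k) (A := C) (V := V)) (x : V)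

theorem isComodHom_subtype (M : Submodule (WithConv (C →ₗ[k] k)) V) :
    letI := subComod M
    Hoch.IsComodHom C (M.restrictScalars k).subtype := by
  letI := subComod M
  refine LinearMap.ext fun x => ?_
  exact (congrArg Subtype.val ((LinearEquiv.ofInjective _
    (Module.Flat.rTensor_preserves_injective_linearMap (M := C) _ (M.restrictScalars k).injective_subtype)).apply_symm_apply
      (((Comod.coact (k := k) (A := C)) ∘ₗ (M.restrictScalars k).subtype).codRestrict _
        (fun x => isSubcomod_restrictScalars M x x.2) x))).symm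

theorem isSimpleComod_subComod (M : Submodule (WithConv (C →ₗ[k] k)) V)
    (hM : IsSimpleModule (WithConv (C →ₗ[k] k)) M) :
    letI := subComod M
    IsSimpleComod k C (M.restrictScalars k) := by
  letI := subComod M
  obtain ⟨h0, h⟩ := (isSimpleModule_iff_minimal M).1 hM
  refine ⟨Submodule.nontrivial_iff_ne_bot.2 h0, fun W hW => ?_⟩
  have hsub : IsSubcomod (k := k) (A := C) (W.map (M.restrictScalars k).subtype) := by
    refine isSubcomod_iff.2 ?_
    rintro χ _ ⟨w, hw, rfl⟩
    exact ⟨χ • w, isSubcomod_iff.1 hW χ w hw, isComodHom_iff.1 (isComodHom_subtype M) χ w⟩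
  rcases h _ hsub (Submodule.map_subtype_le _ W) with e | e
  · left
    rw [eq_bot_iff]
    intro w hw
    exact (Submodule.mem_bot k).2 (Subtype.ext ((Submodule.mem_bot k).1 (e ▸ Submodule.mem_map_of_mem hw)))
  · right
    rw [eq_top_iff]
    intro w _
    obtain ⟨w', hw', e'⟩ := (e.symm ▸ w.2 : (w : V) ∈ W.map (M.restrictScalars k).subtype)
    rwa [← Subtype.ext e']

end Coef3

end Groth.Agent.CoalgH23
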