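import Groth.Prelude.Def_Hoch
import Mathlib.RingTheory.Bialgebra.Basic

/-!
# The comodule cochain complex: functoriality, low degrees, induced comodules are acyclic
-/

universe u v w w'

open TensorProduct HopfRep

noncomputable section

namespace Groth.Agent.CoalgH23

section General

variable {k : Type u} [CommRing k] {A : Type v} [AddCommGroup A] [Module k A] [Coalgebra k A]

theorem isComodHom_toInd (V : Type w) [AddCommGroup V] [Module k V] [Comod k A V] :
    Hoch.IsComodHom A (Hoch.toInd k A V) := by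
  refine LinearMap.ext fun v => ?_
  have h := LinearMap.congr_fun (Comod.coassoc (k := k) (A := A) (V := V)) v
  simp only [LinearMap.comp_apply, LinearEquiv.coe_coe] at h
  rw [← LinearEquiv.eq_symm_apply] at h
  exact h.symm

theorem isComodHom_comp {V : Type w} [AddCommGroup V] [Module k V] [Comod k A V] {W : Type w'} [AddCommGroup W]
    [Module k W] [Comod k A W] {U : Type*} [AddCommGroup U] [Module k U] [Comod k A U] {g : W →ₗ[k] U} {f : V →ₗ[k] W}
    (hg : Hoch.IsComodHom A g) (hf : Hoch.IsComodHom A f) : Hoch.IsComodHom A (g ∘ₗ f) := by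
  unfold Hoch.IsComodHom at hf hg ⊢
  rw [← LinearMap.comp_assoc, hg, LinearMap.comp_assoc, hf, ← LinearMap.comp_assoc, ← LinearMap.rTensor_comp]

/-- The map on induced comodules. -/
def indMap {P : Type w} [AddCommGroup P] [Module k P] {Q : Type w'} [AddCommGroup Q] [Module k Q] (h : P →ₗ[k] Q) :
    Hoch.Ind k A P →ₗ[k] Hoch.Ind k A Q :=
  (Hoch.Ind.equiv k A Q).toLinearMap ∘ₗ h.rTensor A ∘ₗ (Hoch.Ind.equiv k A P).symm.toLinearMap

theorem isComodHom_indMap {P : Type w} [AddCommGroup P] [Module k P] {Q : Type w'} [AddCommGroup Q] [Module k Q]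
    (h : P →ₗ[k] Q) : Hoch.IsComodHom A (indMap (A := A) h) := by
  refine LinearMap.ext fun y => ?_
  have key : ∀ y : P ⊗[k] A, (TensorProduct.assoc k Q A A).symm ((CoalgebraStruct.comul (R := k)).lTensor Q (h.rTensor A y)) =
      (h.rTensor A).rTensor A ((TensorProduct.assoc k P A A).symm ((CoalgebraStruct.comul (R := k)).lTensor P y)) := by
    intro y
    induction y with
    | zero => simp
    | add a b ha hb => simp only [map_add, ha, hb]
    | tmul p a =>
      simp only [LinearMap.rTensor_tmul, LinearMap.lTensor_tmul]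
      generalize CoalgebraStruct.comul (R := k) a = z
      induction z with
      | zero => simp
      | add a b ha hb => simp only [TensorProduct.tmul_add, map_add, ha, hb]
      | tmul a b => simp
  exact key y

theorem counit_toInd {V : Type w} [AddCommGroup V] [Module k V] [Comod k A V] (v : V) :
    Hoch.Ind.counit k A V (Hoch.toInd k A V v) = v := by
  have h := congrArg (TensorProduct.rid k V) (LinearMap.congr_fun (Comod.counit_comp (k := k) (A := A) (V := V)) v)
  simp only [LinearMap.comp_apply, LinearMap.flip_apply, TensorProduct.mk_apply, TensorProduct.rid_tmul, one_smul] at h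
  exact h

theorem equiv_rTensor {P : Type w} [AddCommGroup P] [Module k P] (x : (P ⊗[k] A) ⊗[k] A) :
    @Eq ((P ⊗[k] A) ⊗[k] A) ((Hoch.Ind.equiv k A P).toLinearMap.rTensor A x) x := by
  induction x with
  | zero => exact map_zero _
  | add a b ha hb => exact (map_add _ a b).trans (congrArg₂ (· + ·) ha hb)
  | tmul a b => rfl

theorem cancel_two {M : Type w} [AddCommGroup M] [Module k M] (a b X : M) (r : k) :
    (a + (r * -1) • X) + (b + r • X) = a + b := by
  rw [mul_neg_one, neg_smul]; abel

theorem rTensor_counit_coact {P : Type w} [AddCommGroup P] [Module k P] (y : Hoch.Ind k A P) :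
    (Hoch.Ind.counit k A P).rTensor A (Comod.coact (k := k) (A := A) y) = (Hoch.Ind.equiv k A P).symm y := by
  obtain ⟨y, rfl⟩ := (Hoch.Ind.equiv k A P).surjective y
  rw [LinearEquiv.symm_apply_apply]
  induction y with
  | zero => simp
  | add a b ha hb => simp only [map_add, ha, hb]
  | tmul p a =>
    have h2 : ∀ z : A ⊗[k] A, ((TensorProduct.rid k P).toLinearMap ∘ₗ (CoalgebraStruct.counit (R := k) (A := A)).lTensor P).rTensor A
        ((TensorProduct.assoc k P A A).symm (p ⊗ₜ[k] z)) =
        p ⊗ₜ[k] TensorProduct.lid k A ((CoalgebraStruct.counit (R := k)).rTensor A z) := by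
      intro z
      induction z with
      | zero => simp
      | add a b ha hb => simp only [TensorProduct.tmul_add, map_add, ha, hb]
      | tmul a b => simp [TensorProduct.smul_tmul]
    have h3 := h2 (CoalgebraStruct.comul (R := k) a)
    rw [show TensorProduct.lid k A ((CoalgebraStruct.counit (R := k)).rTensor A (CoalgebraStruct.comul (R := k) a)) = a by
      rw [Coalgebra.rTensor_counit_comul]; simp] at h3
    exact h3

end General

section Complex

variable (k : Type u) [CommRing k] (A : Type v) [Ring A] [Bialgebra k A]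

theorem tail_natural {M : Type v} [AddCommGroup M] [Module k M] {N : Type v} [AddCommGroup N] [Module k N]
    (f : M →ₗ[k] N) (z : M ⊗[k] A) :
    Hoch.tail k A N (f.rTensor A z) = (f.rTensor A).rTensor A (Hoch.tail k A M z) := by
  induction z with
  | zero => simp
  | add a b ha hb => simp only [map_add, ha, hb]
  | tmul m a =>
    rw [LinearMap.rTensor_tmul, Hoch.tail_tmul, Hoch.tail_tmul]
    generalize CoalgebraStruct.comul (R := k) a - a ⊗ₜ 1 - 1 ⊗ₜ a = t
    induction t with
    | zero => simp
    | add a b ha hb => simp only [TensorProduct.tmul_add, map_add, ha, hb]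
    | tmul a b => simp

variable {k A}
variable {V : Type v} [AddCommGroup V] [Module k V] [Comod k A V]
variable {W : Type v} [AddCommGroup W] [Module k W] [Comod k A W]

variable (k A) in
/-- The map on cochains. -/
def cmap (f : V →ₗ[k] W) : (n : ℕ) → ((Hoch.cochain k A V n : Type v) →ₗ[k] (Hoch.cochain k A W n : Type v))
  | 0 => f
  | n + 1 => (cmap f n).rTensor A

theorem d_cmap {f : V →ₗ[k] W} (hf : Hoch.IsComodHom A f) : ∀ (n : ℕ) (x : (Hoch.cochain k A V n : Type v)),
    Hoch.d k A W n (cmap k A f n x) = cmap k A f (n + 1) (Hoch.d k A V n x)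
  | 0, x => by
    change Comod.coact (k := k) (A := A) (f x) - f x ⊗ₜ[k] (1 : A) =
      f.rTensor A (Comod.coact (k := k) (A := A) x - x ⊗ₜ[k] (1 : A))
    rw [map_sub, LinearMap.rTensor_tmul]
    exact congrArg (· - _) (LinearMap.congr_fun hf x)
  | n + 1, x => by
    rw [Hoch.d_succ, Hoch.d_succ, LinearMap.add_apply, LinearMap.add_apply, map_add, LinearMap.smul_apply,
      LinearMap.smul_apply, map_smul]
    change (Hoch.d k A W n).rTensor A ((cmap k A f n).rTensor A x) + _ • Hoch.tail k A _ ((cmap k A f n).rTensor A x) =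
      (cmap k A f (n + 1)).rTensor A ((Hoch.d k A V n).rTensor A x) + _ • ((cmap k A f n).rTensor A).rTensor A (Hoch.tail k A _ x)
    rw [tail_natural, ← LinearMap.rTensor_comp_apply, ← LinearMap.rTensor_comp_apply]
    congr 1
    exact LinearMap.congr_fun (congrArg (LinearMap.rTensor A) (LinearMap.ext (d_cmap hf n))) x

theorem cmap_comp {U : Type v} [AddCommGroup U] [Module k U] (g : W →ₗ[k] U) (f : V →ₗ[k] W) :
    ∀ n, cmap k A g n ∘ₗ cmap k A f n = cmap k A (g ∘ₗ f) n
  | 0 => rfl
  | n + 1 => by
    change (cmap k A g n).rTensor A ∘ₗ (cmap k A f n).rTensor A = (cmap k A (g ∘ₗ f) n).rTensor A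
    rw [← LinearMap.rTensor_comp, cmap_comp]

theorem cmap_id : ∀ n, cmap k A (LinearMap.id : V →ₗ[k] V) n = LinearMap.id
  | 0 => rfl
  | n + 1 => by
    change (cmap k A (LinearMap.id : V →ₗ[k] V) n).rTensor A = _
    rw [cmap_id n]
    exact LinearMap.rTensor_id _ _

theorem d_one_apply (x : V ⊗[k] A) :
    Hoch.d k A V 1 x = (Comod.coact (k := k) (A := A)).rTensor A x -
      (TensorProduct.assoc k V A A).symm ((CoalgebraStruct.comul (R := k)).lTensor V x) + x ⊗ₜ[k] (1 : A) := by
  rw [Hoch.d_succ, LinearMap.add_apply, LinearMap.smul_apply, pow_one, neg_one_smul]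
  induction x with
  | zero => simp
  | add a b ha hb =>
    simp only [map_add, neg_add, TensorProduct.add_tmul]
    rw [add_add_add_comm, ha, hb]
    abel
  | tmul v a =>
    change (Comod.coact (k := k) (A := A) v - v ⊗ₜ[k] (1 : A)) ⊗ₜ[k] a + -Hoch.tail k A V (v ⊗ₜ[k] a) = _
    rw [Hoch.tail_tmul]
    simp only [TensorProduct.tmul_sub, map_sub, TensorProduct.sub_tmul, LinearMap.rTensor_tmul, LinearMap.lTensor_tmul,
      TensorProduct.assoc_symm_tmul]
    abel

theorem d_one_d_zero (v : V) : Hoch.d k A V 1 (Hoch.d k A V 0 v) = 0 := by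
  rw [Hoch.d_zero_apply]
  erw [d_one_apply]
  have h := LinearMap.congr_fun (Comod.coassoc (k := k) (A := A) (V := V)) v
  simp only [LinearMap.comp_apply, LinearEquiv.coe_coe] at h
  rw [← LinearEquiv.eq_symm_apply] at h
  simp only [map_sub, h, LinearMap.rTensor_tmul, LinearMap.lTensor_tmul, Bialgebra.comul_one,
    Algebra.TensorProduct.one_def, TensorProduct.assoc_symm_tmul, TensorProduct.sub_tmul]
  abel

section Induced

variable (k A) (P : Type v) [AddCommGroup P] [Module k P]

/-- The contracting homotopy of the complex of an induced comodule, in degree zero. -/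
def contr0 : Hoch.Ind k A P ⊗[k] A →ₗ[k] Hoch.Ind k A P :=
  (Hoch.Ind.equiv k A P).toLinearMap ∘ₗ (Hoch.Ind.counit k A P).rTensor A

/-- The contracting homotopy of the complex of an induced comodule. -/
def contr : (n : ℕ) → ((Hoch.cochain k A (Hoch.Ind k A P) (n + 1) : Type v) →ₗ[k]
    (Hoch.cochain k A (Hoch.Ind k A P) n : Type v))
  | 0 => contr0 k A P
  | n + 1 => (contr n).rTensor A

theorem contr0_d (y : Hoch.Ind k A P) :
    contr0 k A P (Comod.coact (k := k) (A := A) y - y ⊗ₜ[k] (1 : A)) =
      y - Hoch.Ind.equiv k A P (Hoch.Ind.counit k A P y ⊗ₜ[k] (1 : A)) := by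
  simp only [contr0, LinearMap.comp_apply, map_sub, rTensor_counit_coact, LinearMap.rTensor_tmul, LinearEquiv.coe_coe,
    LinearEquiv.apply_symm_apply]

theorem contr_one (z : Hoch.Ind k A P ⊗[k] A) :
    (contr0 k A P).rTensor A (Hoch.d k A (Hoch.Ind k A P) 1 z) +
      Hoch.d k A (Hoch.Ind k A P) 0 (contr0 k A P z) = z := by
  have h : ∀ z : Hoch.Ind k A P ⊗[k] A, (contr0 k A P).rTensor A
      ((TensorProduct.assoc k (Hoch.Ind k A P) A A).symm ((CoalgebraStruct.comul (R := k)).lTensor (Hoch.Ind k A P) z)) =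
      Comod.coact (k := k) (A := A) (contr0 k A P z) := by
    intro z
    induction z with
    | zero => simp
    | add a b ha hb => simp only [map_add, ha, hb]
    | tmul y a =>
      have h2 : ∀ t : A ⊗[k] A, (contr0 k A P).rTensor A ((TensorProduct.assoc k (Hoch.Ind k A P) A A).symm (y ⊗ₜ[k] t)) =
          (Hoch.Ind.equiv k A P).toLinearMap.rTensor A ((TensorProduct.assoc k P A A).symm (Hoch.Ind.counit k A P y ⊗ₜ[k] t)) := by
        intro t
        induction t with
        | zero => simp
        | add a b ha hb => simp only [TensorProduct.tmul_add, map_add, ha, hb]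
        | tmul a b => simp [contr0]
      rw [LinearMap.lTensor_tmul, h2]
      simp only [contr0, LinearMap.comp_apply, LinearMap.rTensor_tmul, LinearEquiv.coe_coe]
      exact (equiv_rTensor _).trans (Hoch.Ind.coact_equiv_tmul k A P _ a).symm
  rw [d_one_apply, Hoch.d_zero_apply]
  simp only [map_add, map_sub, h, LinearMap.rTensor_tmul]
  rw [← LinearMap.rTensor_comp_apply,
    show contr0 k A P ∘ₗ Comod.coact (k := k) (A := A) = LinearMap.id from LinearMap.ext fun y => by
      simp [contr0, rTensor_counit_coact],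
    LinearMap.rTensor_id, LinearMap.id_apply]
  abel

theorem contr_d : ∀ (n : ℕ) (z : (Hoch.cochain k A (Hoch.Ind k A P) (n + 1) : Type v)),
    contr k A P (n + 1) (Hoch.d k A (Hoch.Ind k A P) (n + 1) z) +
      Hoch.d k A (Hoch.Ind k A P) n (contr k A P n z) = z
  | 0, z => contr_one k A P z
  | n + 1, z => by
    rw [Hoch.d_succ k A (Hoch.Ind k A P) (n + 1), Hoch.d_succ k A (Hoch.Ind k A P) n, LinearMap.add_apply,
      LinearMap.add_apply, LinearMap.smul_apply, LinearMap.smul_apply, map_add, map_smul]
    change ((contr k A P n).rTensor A).rTensor A ((Hoch.d k A (Hoch.Ind k A P) (n + 1)).rTensor A z) +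
        _ • ((contr k A P n).rTensor A).rTensor A (Hoch.tail k A _ z) +
      ((Hoch.d k A (Hoch.Ind k A P) n).rTensor A ((contr k A P n).rTensor A z) +
        _ • Hoch.tail k A _ ((contr k A P n).rTensor A z)) = z
    rw [tail_natural, pow_succ (-1 : k) (n + 1)]
    refine (cancel_two _ _ _ _).trans ?_
    rw [← LinearMap.rTensor_comp_apply, ← LinearMap.rTensor_comp_apply, ← LinearMap.add_apply, ← LinearMap.rTensor_add]
    have ih := contr_d n
    rw [show (contr k A P n).rTensor A ∘ₗ Hoch.d k A (Hoch.Ind k A P) (n + 1) +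
      Hoch.d k A (Hoch.Ind k A P) n ∘ₗ contr k A P n = LinearMap.id from LinearMap.ext ih, LinearMap.rTensor_id]
    rfl

theorem cocycles_ind_le (n : ℕ) :
    Hoch.cocycles k A (Hoch.Ind k A P) (n + 1) ≤ Hoch.coboundaries k A (Hoch.Ind k A P) (n + 1) := fun z hz => by
  refine ⟨contr k A P n z, ?_⟩
  have h := contr_d k A P n z
  rwa [LinearMap.mem_ker.1 hz, map_zero, zero_add] at h

end Induced

/-- Cohomology of a retract of an induced comodule vanishes. -/
theorem cocycles_le_of_retract (r : Hoch.Ind k A V →ₗ[k] V) (hr : Hoch.IsComodHom A r)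
    (hid : r ∘ₗ Hoch.toInd k A V = LinearMap.id) (n : ℕ) :
    Hoch.cocycles k A V (n + 1) ≤ Hoch.coboundaries k A V (n + 1) := fun z hz => by
  have h0 : cmap k A (Hoch.toInd k A V) (n + 1) z ∈ Hoch.cocycles k A (Hoch.Ind k A V) (n + 1) := by
    refine LinearMap.mem_ker.2 ?_
    rw [d_cmap (isComodHom_toInd V), LinearMap.mem_ker.1 hz, map_zero]
  obtain ⟨w, hw⟩ := cocycles_ind_le k A V n h0
  refine ⟨cmap k A r n w, ?_⟩
  rw [d_cmap hr, hw, ← LinearMap.comp_apply, cmap_comp, hid, cmap_id]
  rfl

end Complex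

end Groth.Agent.CoalgH23
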