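import Groth.Agent.Lib.CoalgH23.Basic

/-!
# Simple and semisimple comodules, change of coalgebra
-/

universe u v v' w w'

open TensorProduct HopfRep WithConv

noncomputable section

namespace Groth.Agent.CoalgH23

/-- A simple submodule of a sum of images of simple modules is isomorphic to one of them. -/
theorem exists_equiv_of_le_iSup_range {R : Type u} [Ring R] {M : Type v} [AddCommGroup M] [Module R M]
    {ι : Type v'} (K : ι → Type w) [∀ i, AddCommGroup (K i)] [∀ i, Module R (K i)] [∀ i, IsSimpleModule R (K i)]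
    (g : ∀ i, K i →ₗ[R] M) (T : Submodule R M) [IsSimpleModule R T] (hT : T ≤ ⨆ i, LinearMap.range (g i)) :
    ∃ i, Nonempty (K i ≃ₗ[R] T) := by
  let P := ⨆ i, LinearMap.range (g i)
  have hP : IsSemisimpleModule R P :=
    by
    have h := isSemisimpleModule_biSup_of_isSemisimpleModule_submodule (s := (Set.univ : Set ι))
      (p := fun i => LinearMap.range (g i)) fun i _ => IsSemisimpleModule.range (g i)
    have e : (⨆ i ∈ (Set.univ : Set ι), LinearMap.range (g i)) = P := by simp [P]
    exact (LinearEquiv.ofEq _ _ e).isSemisimpleModule_iff.1 h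
  obtain ⟨T', hT'⟩ := exists_isCompl (T.comap P.subtype)
  let p : P →ₗ[R] T.comap P.subtype := (T.comap P.subtype).linearProjOfIsCompl T' hT'
  let p' : P →ₗ[R] T := (Submodule.comapSubtypeEquivOfLe hT).toLinearMap ∘ₗ p
  by_contra! hne
  have h0 : ∀ i (x : K i), p' ⟨g i x, (le_iSup (fun j => LinearMap.range (g j)) i) ⟨x, rfl⟩⟩ = 0 := by
    intro i x
    let q : K i →ₗ[R] T := p' ∘ₗ (g i).codRestrict P fun y => (le_iSup (fun j => LinearMap.range (g j)) i) ⟨y, rfl⟩
    rcases LinearMap.bijective_or_eq_zero q with hb | hz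
    · exact ((hne i).false (LinearEquiv.ofBijective q hb)).elim
    · exact LinearMap.congr_fun hz x
  have hall : ∀ z : P, p' z = 0 := by
    rintro ⟨z, hz⟩
    induction hz using Submodule.iSup_induction' with
    | mem i y hy => obtain ⟨x, rfl⟩ := hy; exact h0 i x
    | zero => exact map_zero p'
    | add a b ha hb iha ihb =>
      rw [show (⟨a + b, add_mem ha hb⟩ : P) = ⟨a, ha⟩ + ⟨b, hb⟩ from rfl, map_add, iha, ihb, add_zero]
  have := IsSimpleModule.nontrivial R T
  obtain ⟨t, ht⟩ := exists_ne (0 : T)
  refine ht ?_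
  have h := hall ⟨t, hT t.2⟩
  have e : p ⟨t, hT t.2⟩ = ⟨⟨t, hT t.2⟩, t.2⟩ := Submodule.projectionOnto_apply_left hT' ⟨⟨t, hT t.2⟩, t.2⟩
  simp only [p', LinearMap.comp_apply, e] at h
  exact (Subtype.ext rfl).trans h

/-- Sums of images of simple modules with no common isomorphism type are disjoint. -/
theorem disjoint_iSup_range {R : Type u} [Ring R] {M : Type v} [AddCommGroup M] [Module R M]
    {ι : Type v'} (K : ι → Type w) [∀ i, AddCommGroup (K i)] [∀ i, Module R (K i)] [∀ i, IsSimpleModule R (K i)]
    (g : ∀ i, K i →ₗ[R] M)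
    {κ : Type*} (L : κ → Type w') [∀ i, AddCommGroup (L i)] [∀ i, Module R (L i)] [∀ i, IsSimpleModule R (L i)]
    (h : ∀ i, L i →ₗ[R] M) (hne : ∀ i j, IsEmpty (K i ≃ₗ[R] L j)) :
    Disjoint (⨆ i, LinearMap.range (g i)) (⨆ j, LinearMap.range (h j)) := by
  rw [Submodule.disjoint_def]
  intro x hx hx'
  by_contra hx0
  let P := ⨆ i, LinearMap.range (g i)
  let Q := ⨆ j, LinearMap.range (h j)
  have : IsSemisimpleModule R P := by
    have h := isSemisimpleModule_biSup_of_isSemisimpleModule_submodule (s := (Set.univ : Set ι))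
      (p := fun i => LinearMap.range (g i)) fun i _ => IsSemisimpleModule.range (g i)
    have e : (⨆ i ∈ (Set.univ : Set ι), LinearMap.range (g i)) = P := by simp [P]
    exact (LinearEquiv.ofEq _ _ e).isSemisimpleModule_iff.1 h
  have : IsSemisimpleModule R ↥(P ⊓ Q) :=
    IsSemisimpleModule.of_injective (Submodule.inclusion (inf_le_left : P ⊓ Q ≤ P)) (Submodule.inclusion_injective _)
  have : Nontrivial ↥(P ⊓ Q) := ⟨⟨⟨x, hx, hx'⟩, 0, fun h => hx0 (congrArg Subtype.val h)⟩⟩
  obtain ⟨T, hT⟩ := IsSemisimpleModule.exists_simple_submodule R ↥(P ⊓ Q)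
  let T' : Submodule R M := T.map (P ⊓ Q).subtype
  have : IsSimpleModule R T' :=
    IsSimpleModule.congr (Submodule.equivMapOfInjective (P ⊓ Q).subtype (P ⊓ Q).injective_subtype T).symm
  obtain ⟨i, ⟨e⟩⟩ := exists_equiv_of_le_iSup_range K g T' (by rintro _ ⟨z, _, rfl⟩; exact z.2.1)
  obtain ⟨j, ⟨e'⟩⟩ := exists_equiv_of_le_iSup_range L h T' (by rintro _ ⟨z, _, rfl⟩; exact z.2.2)
  exact (hne i j).false (e.trans e'.symm)

section Over

variable {k : Type u} [Field k] {C : Type v} [AddCommGroup C] [Module k C] [Coalgebra k C]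
variable {V : Type w} [AddCommGroup V] [Module k V] [Comod k C V]

theorem finite_of_isSimple (hV : IsSimpleComod k C V) : Module.Finite k V := by
  obtain ⟨hnt, h⟩ := hV
  obtain ⟨v, hv⟩ := exists_ne (0 : V)
  have hmem : v ∈ (Submodule.span (WithConv (C →ₗ[k] k)) {v}).restrictScalars k := Submodule.mem_span_singleton_self v
  rcases h _ (isSubcomod_restrictScalars (Submodule.span (WithConv (C →ₗ[k] k)) {v})) with e | e
  · exact absurd (by simpa [e] using hmem) hv
  · have := finite_span_singleton (k := k) (C := C) v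
    exact Module.Finite.equiv (LinearEquiv.ofTop _ e)

theorem isSimpleModule_iff_minimal (M : Submodule (WithConv (C →ₗ[k] k)) V) :
    IsSimpleModule (WithConv (C →ₗ[k] k)) M ↔ M.restrictScalars k ≠ ⊥ ∧
      ∀ W' : Submodule k V, IsSubcomod (k := k) (A := C) W' → W' ≤ M.restrictScalars k →
        W' = ⊥ ∨ W' = M.restrictScalars k := by
  rw [isSimpleModule_iff_isAtom]
  constructor
  · intro h
    refine ⟨fun e => h.1 ((Submodule.restrictScalars_eq_bot_iff _ _ _).1 e), fun W' hW' hle => ?_⟩
    rcases h.le_iff.1 (show ofSub W' hW' ≤ M from hle) with e | e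
    · exact Or.inl (by rw [← ofSub_restrictScalars hW', e]; exact Submodule.restrictScalars_bot k (WithConv (C →ₗ[k] k)) V)
    · exact Or.inr (by rw [← ofSub_restrictScalars hW', e])
  · rintro ⟨h0, h⟩
    refine ⟨fun e => h0 (by rw [e]; exact Submodule.restrictScalars_bot k (WithConv (C →ₗ[k] k)) V), fun W' hlt => ?_⟩
    rcases h _ (isSubcomod_restrictScalars W') hlt.le with e | e
    · exact (Submodule.restrictScalars_eq_bot_iff _ _ _).1 e
    · exact absurd (Submodule.restrictScalars_injective _ _ _ e) hlt.ne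

theorem isSubcomod_iSup {ι : Sort*} (W : ι → Submodule k V) (hW : ∀ i, IsSubcomod (k := k) (A := C) (W i)) :
    IsSubcomod (k := k) (A := C) (⨆ i, W i) := by
  refine isSubcomod_iff.2 fun χ v hv => ?_
  induction hv using Submodule.iSup_induction' with
  | mem i y hy => exact le_iSup W i (isSubcomod_iff.1 (hW i) χ y hy)
  | zero => rw [smul_zero]; exact zero_mem _
  | add a b _ _ iha ihb => rw [smul_add]; exact add_mem iha ihb

theorem restrictScalars_iSup_le {ι : Sort*} (M : ι → Submodule (WithConv (C →ₗ[k] k)) V) :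
    (⨆ i, M i).restrictScalars k ≤ ⨆ i, (M i).restrictScalars k := by
  intro v hv
  rw [Submodule.restrictScalars_mem] at hv
  induction hv using Submodule.iSup_induction' with
  | mem i y hy => exact le_iSup (fun i => (M i).restrictScalars k) i hy
  | zero => exact zero_mem _
  | add a b _ _ iha ihb => exact add_mem iha ihb

end Over

section Change

variable {k : Type u} [Field k] {C : Type v} [AddCommGroup C] [Module k C] [Coalgebra k C]
  {D : Type v'} [AddCommGroup D] [Module k D] [Coalgebra k D]
variable {V : Type w} [AddCommGroup V] [Module k V]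

/-- The pushforward of a comodule along a coalgebra map. -/
@[reducible] def pushComod (i : C →ₗc[k] D) (c : Comod k C V) : Comod k D V where
  coact := (i : C →ₗ[k] D).lTensor V ∘ₗ c.coact
  coassoc := by
    refine LinearMap.ext fun v => ?_
    have h1 : ∀ z : V ⊗[k] C, (TensorProduct.assoc k V D D) (((i : C →ₗ[k] D).lTensor V ∘ₗ c.coact).rTensor D
          ((i : C →ₗ[k] D).lTensor V z)) =
        (TensorProduct.map (i : C →ₗ[k] D) (i : C →ₗ[k] D)).lTensor V (TensorProduct.assoc k V C C (c.coact.rTensor C z)) := by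
      intro z
      induction z with
      | zero => simp
      | add a b ha hb => simp only [map_add, ha, hb]
      | tmul m x =>
        simp only [LinearMap.lTensor_tmul, LinearMap.rTensor_tmul, LinearMap.comp_apply]
        generalize c.coact m = y
        induction y with
        | zero => simp
        | add a b ha hb => simp only [TensorProduct.add_tmul, map_add, ha, hb]
        | tmul a d => simp
    simp only [LinearMap.comp_apply, LinearEquiv.coe_coe]
    rw [h1]
    have hc := LinearMap.congr_fun c.coassoc v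
    simp only [LinearMap.comp_apply, LinearEquiv.coe_coe] at hc
    rw [hc, ← LinearMap.lTensor_comp_apply, ← LinearMap.lTensor_comp_apply]
    exact LinearMap.congr_fun (congrArg (LinearMap.lTensor V) i.map_comp_comul) _
  counit_comp := by
    rw [← LinearMap.comp_assoc, ← LinearMap.lTensor_comp,
      show CoalgebraStruct.counit (R := k) (A := D) ∘ₗ (i : C →ₗ[k] D) = CoalgebraStruct.counit (R := k) (A := C) from i.counit_comp]
    exact c.counit_comp

theorem isSubcomod_of_push [Comod k C V] [Comod k D V] (i : C →ₗc[k] D) (hi : Function.Injective i)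
    (hcd : (i : C →ₗ[k] D).lTensor V ∘ₗ Comod.coact (k := k) (A := C) = Comod.coact (k := k) (A := D) (V := V))
    {W : Submodule k V} (hW : IsSubcomod (k := k) (A := D) W) : IsSubcomod (k := k) (A := C) W := by
  intro w hw
  refine (mem_range_rTensor_iff W _).2 fun χ => ?_
  obtain ⟨g, hg⟩ := (i : C →ₗ[k] D).exists_leftInverse_of_injective (LinearMap.ker_eq_bot.2 hi)
  have h := slice_mem_of_mem_range (χ ∘ₗ g) W (hW w hw)
  rwa [← LinearMap.congr_fun hcd w, LinearMap.comp_apply, slice_lTensor, LinearMap.comp_assoc, hg,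
    LinearMap.comp_id] at h

theorem isSubcomod_push [Comod k C V] [Comod k D V] (i : C →ₗc[k] D)
    (hcd : (i : C →ₗ[k] D).lTensor V ∘ₗ Comod.coact (k := k) (A := C) = Comod.coact (k := k) (A := D) (V := V))
    {W : Submodule k V} (hW : IsSubcomod (k := k) (A := C) W) : IsSubcomod (k := k) (A := D) W := by
  intro w hw
  refine (mem_range_rTensor_iff W _).2 fun χ => ?_
  rw [← LinearMap.congr_fun hcd w, LinearMap.comp_apply, slice_lTensor]
  exact slice_mem_of_mem_range _ W (hW w hw)

end Change

end Groth.Agent.CoalgH23
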