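import Groth.Agent.Lib.CoalgH23.Dual
import Groth.Agent.Lib.CoalgH23.Hochschild
import Groth.Agent.Lib.CoalgH23.Simple
import Groth.Agent.Lib.HopfMod.Avg
import Mathlib.LinearAlgebra.LinearPMap

/-!
# Linear reductivity, invariant integrals, invariant vectors
-/

universe u v w w'

open TensorProduct HopfRep WithConv
open scoped Groth.Agent.CoalgH23

noncomputable section

namespace Groth.Agent.CoalgH23

section Avg

variable {k : Type u} [CommRing k] {A : Type v} [CommRing A] [HopfAlgebra k A]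
variable {M : Type w} [AddCommGroup M] [Module k M] [Comod k A M]
variable {V : Type w'} [AddCommGroup V] [Module k V] [Comod k A V]

theorem avg_comp (l : A →ₗ[k] k) {M' : Type*} [AddCommGroup M'] [Module k M'] [Comod k A M'] {g : M' →ₗ[k] M}
    (hg : Hoch.IsComodHom A g) (f : M →ₗ[k] V) : HopfMod.avg l (f ∘ₗ g) = HopfMod.avg l f ∘ₗ g := by
  refine LinearMap.ext fun m => ?_
  simp only [HopfMod.avg, LinearMap.comp_apply]
  rw [show Comod.coact (k := k) (A := A) (g m) = g.rTensor A (Comod.coact (k := k) (A := A) m) from LinearMap.congr_fun hg m,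
    ← LinearMap.rTensor_comp_apply, LinearMap.comp_assoc]

variable (V) in
/-- An integral gives a comodule retraction of the coaction. -/
theorem exists_retract {l : A →ₗ[k] k} (hl1 : l 1 = 1)
    (hl : ∀ y, TensorProduct.lid k A (l.rTensor A (CoalgebraStruct.comul (R := k) y)) = algebraMap k A (l y)) :
    ∃ r : Hoch.Ind k A V →ₗ[k] V, Hoch.IsComodHom A r ∧ r ∘ₗ Hoch.toInd k A V = LinearMap.id :=
  ⟨HopfMod.avg l (Hoch.Ind.counit k A V), HopfMod.isComodHom_avg hl _, by
    rw [← avg_comp l (isComodHom_toInd V), show Hoch.Ind.counit k A V ∘ₗ Hoch.toInd k A V = LinearMap.id from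
      LinearMap.ext counit_toInd, HopfMod.avg_id hl1]⟩

end Avg

section Field

variable {k : Type u} [Field k] {A : Type v} [CommRing A] [HopfAlgebra k A]

/-- Comodules over a Hopf algebra with an integral are semisimple. -/
theorem isSemisimpleComod_of_integral {V : Type w} [AddCommGroup V] [Module k V] [Comod k A V] {l : A →ₗ[k] k}
    (hl1 : l 1 = 1)
    (hl : ∀ y, TensorProduct.lid k A (l.rTensor A (CoalgebraStruct.comul (R := k) y)) = algebraMap k A (l y)) :
    IsSemisimpleComod k A V := by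
  intro W hW
  letI := Comodule.subComod W hW
  obtain ⟨p, hp⟩ := W.subtype.exists_leftInverse_of_injective W.ker_subtype
  let P := HopfMod.avg l p
  have hP : Hoch.IsComodHom A P := HopfMod.isComodHom_avg hl p
  have hι := Comodule.isComodHom_subtype W hW
  have hid : P ∘ₗ W.subtype = LinearMap.id := by rw [← avg_comp l hι, hp, HopfMod.avg_id hl1]
  refine ⟨LinearMap.ker P, isSubcomod_iff.2 fun χ v hv => ?_, ?_⟩
  · rw [LinearMap.mem_ker] at hv ⊢
    rw [isComodHom_iff.1 hP, hv, smul_zero]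
  · exact LinearMap.isCompl_of_proj fun x => LinearMap.congr_fun hid x

/-- A copy of a module, to carry another comodule structure. -/
def Copy (U : Type v) : Type v := U

instance {U : Type v} [AddCommGroup U] : AddCommGroup (Copy U) := inferInstanceAs (AddCommGroup U)

instance {U : Type v} [AddCommGroup U] [Module k U] : Module k (Copy U) := inferInstanceAs (Module k U)

variable (k) in
/-- The identification with the copy. -/
def Copy.equiv (U : Type v) [AddCommGroup U] [Module k U] : U ≃ₗ[k] Copy U := LinearEquiv.refl k U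

/-- A functional on a comodule is invariant. -/
def IsInv {V : Type w} [AddCommGroup V] [Module k V] [Comod k A V] (φ : V →ₗ[k] k) : Prop :=
  ∀ (ψ : A →ₗ[k] k) (v : V), φ (actL ψ v) = ψ 1 * φ v

theorem mem_fixedPts_iff {V : Type w} [AddCommGroup V] [Module k V] [Comod k A V] {v : V} :
    v ∈ fixedPts k A V ↔ ∀ ψ : A →ₗ[k] k, actL ψ v = ψ 1 • v := by
  constructor
  · intro h ψ
    show slice ψ _ = _
    rw [show Comod.coact (k := k) (A := A) v = v ⊗ₜ[k] (1 : A) from h, slice_tmul]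
  · intro h
    exact eq_of_slice_eq fun ψ => by rw [slice_tmul]; exact h ψ

variable (k A) in
/-- Surjections onto the trivial representation have fixed vectors off their kernel. -/
def HasFixedLifts : Prop :=
  ∀ (V : Type v) [AddCommGroup V] [Module k V] [Comod k A V], Module.Finite k V →
    ∀ π : V →ₗ[k] k, Function.Surjective π →
      LinearMap.rTensor A π ∘ₗ Comod.coact (k := k) (A := A) (V := V) =
        (TensorProduct.mk k k A).flip (1 : A) ∘ₗ π →
      ∃ v ∈ fixedPts k A V, π v ≠ 0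

theorem exists_inv_extend (H : HasFixedLifts k A) {U : Type v} [AddCommGroup U] [Module k U] [Comod k A U]
    [Module.Finite k U] {D : Submodule k U} (hD : IsSubcomod (k := k) (A := A) D) {v₀ : U}
    (hv₀ : v₀ ∈ fixedPts k A U) (hv₀D : v₀ ∈ D) (l : D →ₗ[k] k)
    (hl : ∀ (ψ : A →ₗ[k] k) (d : D), l ⟨actL ψ (d : U), isSubcomod_iff.1 hD (toConv ψ) d.1 d.2⟩ = ψ 1 * l d)
    (h1 : l ⟨v₀, hv₀D⟩ = 1) :
    ∃ φ : U →ₗ[k] k, IsInv (A := A) φ ∧ ∀ d : D, φ d = l d := by
  obtain ⟨d, hd⟩ := exists_dual (k := k) (A := A) (V := U) inferInstance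
  let b := Module.finBasis k U
  let e : Module.Dual k U ≃ₗ[k] Copy U := b.toDualEquiv.symm.trans (Copy.equiv k U)
  letI : Comod k A (Copy U) := ComodTens.Comod.ofEquiv e d
  let F : Submodule k (Module.Dual k U) :=
    { carrier := {f | ∀ x : D, f x = f v₀ * l x}
      add_mem' := fun {f g} hf hg x => by simp [hf x, hg x, add_mul]
      zero_mem' := fun x => by simp
      smul_mem' := fun a f hf x => by simp [hf x, mul_assoc] }
  let W : Submodule k (Copy U) := F.comap e.symm.toLinearMap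
  have hS1 : ∀ χ : A →ₗ[k] k, (χ ∘ₗ HopfAlgebraStruct.antipode (R := k)) 1 = χ 1 := fun χ => by
    simp [HopfAlgebra.antipode_one]
  have hslice : ∀ (χ : A →ₗ[k] k) (y : Copy U), e.symm (actL χ y) = slice χ (d.coact (e.symm y)) := fun χ y => by
    rw [LinearEquiv.symm_apply_eq]
    show slice χ ((e : Module.Dual k U →ₗ[k] Copy U).rTensor A (d.coact (e.symm y))) = _
    rw [slice_rTensor]
    rfl
  have hv0 : ∀ (χ : A →ₗ[k] k) (f : Module.Dual k U), slice χ (d.coact f) v₀ = χ 1 * f v₀ := fun χ f => by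
    rw [dual_actL hd]
    change f (actL (χ ∘ₗ HopfAlgebraStruct.antipode (R := k)) v₀) = _
    rw [mem_fixedPts_iff.1 hv₀, map_smul, smul_eq_mul, hS1]
  have hW : IsSubcomod (k := k) (A := A) W := isSubcomod_iff.2 fun χ y hy => by
    intro x
    show e.symm (actL χ.ofConv y) x = e.symm (actL χ.ofConv y) v₀ * l x
    rw [hslice, hv0, dual_actL hd]
    change e.symm y (actL (χ.ofConv ∘ₗ HopfAlgebraStruct.antipode (R := k)) (x : U)) = _
    refine ((hy : e.symm y ∈ F) ⟨_, isSubcomod_iff.1 hD (toConv (χ.ofConv ∘ₗ HopfAlgebraStruct.antipode (R := k))) x.1 x.2⟩).trans ?_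
    refine (congrArg (e.symm y v₀ * ·) (hl (χ.ofConv ∘ₗ HopfAlgebraStruct.antipode (R := k)) x)).trans ?_
    rw [hS1]
    ring
  letI := Comodule.subComod W hW
  have hιW := Comodule.isComodHom_subtype W hW
  have hval : ∀ (χ : A →ₗ[k] k) (y : W), ((actL χ y : W) : Copy U) = actL χ (y : Copy U) := fun χ y =>
    isComodHom_iff.1 hιW (toConv χ) y
  let π : W →ₗ[k] k := LinearMap.applyₗ v₀ ∘ₗ e.symm.toLinearMap ∘ₗ W.subtype
  obtain ⟨L, hL⟩ := l.exists_extend
  have hLx : ∀ x : D, L x = l x := fun x => LinearMap.congr_fun hL x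
  have hL0 : L v₀ = 1 := (hLx ⟨v₀, hv₀D⟩).trans h1
  have hLW : e L ∈ W := fun (x : D) => by
    show e.symm (e L) (x : U) = e.symm (e L) v₀ * l x
    rw [e.symm_apply_apply, hLx, hL0, one_mul]
  have hπs : Function.Surjective π := fun a => by
    refine ⟨a • ⟨e L, hLW⟩, ?_⟩
    rw [map_smul, smul_eq_mul, show π ⟨e L, hLW⟩ = e.symm (e L) v₀ from rfl, e.symm_apply_apply, hL0, mul_one]
  have hπ : π.rTensor A ∘ₗ Comod.coact (k := k) (A := A) = (TensorProduct.mk k k A).flip (1 : A) ∘ₗ π := by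
    refine LinearMap.ext fun y => eq_of_slice_eq fun χ => ?_
    rw [LinearMap.comp_apply, slice_rTensor, LinearMap.comp_apply]
    show e.symm ((actL χ y : W) : Copy U) v₀ = slice χ (π y ⊗ₜ[k] (1 : A))
    rw [slice_tmul, smul_eq_mul]
    rw [hval, hslice, hv0]
    rfl
  have : Module.Finite k (Copy U) := Module.Finite.equiv (Copy.equiv k U)
  obtain ⟨y, hfix, hne⟩ := H W inferInstance π hπs hπ
  let f := e.symm (y : Copy U)
  have hf0 : f v₀ ≠ 0 := hne
  have hf : ∀ x : D, f x = f v₀ * l x := y.2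
  refine ⟨(f v₀)⁻¹ • f, fun ψ v => ?_, fun x => ?_⟩
  · have h2 : slice (ψ ∘ₗ HopfAlgebraStruct.antipode (R := k)) (d.coact f) = ψ 1 • f := by
      rw [← hslice, ← hval, mem_fixedPts_iff.1 hfix, hS1, Submodule.coe_smul, map_smul]
    have h4 := LinearMap.congr_fun h2 v
    rw [dual_actL hd, show (ψ ∘ₗ HopfAlgebraStruct.antipode (R := k)) ∘ₗ HopfAlgebraStruct.antipode (R := k) = ψ from
      LinearMap.ext fun a => by simp [antipode_antipode]] at h4
    simp only [LinearMap.smul_apply, smul_eq_mul] at h4 ⊢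
    change (f v₀)⁻¹ * f (slice ψ (Comod.coact (k := k) (A := A) v)) = _
    rw [h4]
    ring
  · simp only [LinearMap.smul_apply, smul_eq_mul, hf x]
    field_simp

theorem exists_integral_of_hasFixedLifts (H : HasFixedLifts k A) :
    ∃ l : A →ₗ[k] k, l 1 = 1 ∧
      ∀ y, TensorProduct.lid k A (l.rTensor A (CoalgebraStruct.comul (R := k) y)) = algebraMap k A (l y) := by
  have hone : (1 : A) ∈ fixedPts k A A := Bialgebra.comul_one.trans Algebra.TensorProduct.one_def
  have : Nontrivial A := (Bialgebra.counitAlgHom k A).toRingHom.domain_nontrivial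
  let S : Set (A →ₗ.[k] k) := {f | IsSubcomod (k := k) (A := A) f.domain ∧
    (∀ (ψ : A →ₗ[k] k) (x : f.domain) (h : actL ψ (x : A) ∈ f.domain), f ⟨_, h⟩ = ψ 1 * f x) ∧
    ∃ h : (1 : A) ∈ f.domain, f ⟨1, h⟩ = 1}
  have hbase : (LinearPMap.mkSpanSingleton (1 : A) (1 : k) one_ne_zero : A →ₗ.[k] k) ∈ S := by
    set f : A →ₗ.[k] k := LinearPMap.mkSpanSingleton (1 : A) (1 : k) one_ne_zero
    have hdom : f.domain = Submodule.span k {(1 : A)} := LinearPMap.domain_mkSpanSingleton _ _ _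
    have hf1 : ∀ h : (1 : A) ∈ f.domain, f ⟨1, h⟩ = 1 := fun h => LinearPMap.mkSpanSingleton'_apply_self _ _ _ _
    refine ⟨?_, fun ψ x h => ?_, ⟨hdom ▸ Submodule.mem_span_singleton_self 1, hf1 _⟩⟩
    · rw [hdom]
      refine isSubcomod_iff.2 fun χ v hv => ?_
      obtain ⟨a, rfl⟩ := Submodule.mem_span_singleton.1 hv
      rw [smul_comm]
      refine Submodule.smul_mem _ _ ?_
      show actL χ.ofConv (1 : A) ∈ _
      rw [mem_fixedPts_iff.1 hone]
      exact Submodule.smul_mem _ _ (Submodule.mem_span_singleton_self 1)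
    · obtain ⟨a, ha⟩ := Submodule.mem_span_singleton.1 (hdom ▸ x.2 : (x : A) ∈ Submodule.span k {(1 : A)})
      have e : (⟨actL ψ (x : A), h⟩ : f.domain) = ψ 1 • x := Subtype.ext (by
        show actL ψ (x : A) = ψ 1 • (x : A)
        rw [← ha, map_smul, mem_fixedPts_iff.1 hone, smul_comm])
      rw [e, f.map_smul, smul_eq_mul]
  obtain ⟨m, -, hm⟩ := zorn_le_nonempty₀ S (fun c hc hch y hy => by
    have hdir := hch.directedOn
    refine ⟨LinearPMap.sSup c hdir, ?_, fun z hz => LinearPMap.le_sSup hdir hz⟩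
    have hd2 : DirectedOn (· ≤ ·) (LinearPMap.domain '' c) := by
      rintro _ ⟨f, hf, rfl⟩ _ ⟨g, hg, rfl⟩
      obtain ⟨w, hw, hfw, hgw⟩ := hdir f hf g hg
      exact ⟨_, ⟨w, hw, rfl⟩, hfw.1, hgw.1⟩
    have hmem : ∀ x ∈ (LinearPMap.sSup c hdir).domain, ∃ f ∈ c, x ∈ f.domain := fun x hx => by
      have hx' : x ∈ sSup (LinearPMap.domain '' c) := hx
      obtain ⟨_, ⟨f, hf, rfl⟩, hxf⟩ := (Submodule.mem_sSup_of_directed (s := LinearPMap.domain '' c) ⟨_, ⟨y, hy, rfl⟩⟩ hd2).1 hx'
      exact ⟨f, hf, hxf⟩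
    refine ⟨isSubcomod_iff.2 fun χ x hx => ?_, fun ψ x h => ?_, ?_⟩
    · obtain ⟨f, hf, hxf⟩ := hmem x hx
      exact (LinearPMap.le_sSup hdir hf).1 (isSubcomod_iff.1 (hc hf).1 χ x hxf)
    · obtain ⟨f, hf, hxf⟩ := hmem x x.2
      have hle := LinearPMap.le_sSup hdir hf
      have hψ : actL ψ (x : A) ∈ f.domain := isSubcomod_iff.1 (hc hf).1 (toConv ψ) x hxf
      rw [← hle.2 (x := ⟨_, hψ⟩) (y := ⟨_, h⟩) rfl, ← hle.2 (x := ⟨x, hxf⟩) (y := x) rfl]
      exact (hc hf).2.1 ψ ⟨x, hxf⟩ hψ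
    · obtain ⟨h1, h1'⟩ := (hc hy).2.2
      have hle := LinearPMap.le_sSup hdir hy
      exact ⟨hle.1 h1, (hle.2 (x := ⟨1, h1⟩) (y := ⟨1, hle.1 h1⟩) rfl).symm.trans h1'⟩) _ hbase
  obtain ⟨hmsub, hminv, hm1, hm1'⟩ := hm.prop
  have htop : ∀ x : A, x ∈ m.domain := by
    intro x
    let C : Submodule k A :=
      (Submodule.span (WithConv (A →ₗ[k] k)) {x}).restrictScalars k ⊔ (Submodule.span (WithConv (A →ₗ[k] k)) {(1 : A)}).restrictScalars k
    have hCsub : IsSubcomod (k := k) (A := A) C :=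
      Comodule.isSubcomod_sup (isSubcomod_restrictScalars _) (isSubcomod_restrictScalars _)
    have h1C : (1 : A) ∈ C := Submodule.mem_sup_right (Submodule.mem_span_singleton_self _)
    have hxC : x ∈ C := Submodule.mem_sup_left (Submodule.mem_span_singleton_self _)
    have : Module.Finite k ((Submodule.span (WithConv (A →ₗ[k] k)) {x}).restrictScalars k) := finite_span_singleton x
    have : Module.Finite k ((Submodule.span (WithConv (A →ₗ[k] k)) {(1 : A)}).restrictScalars k) := finite_span_singleton _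
    have : Module.Finite k C := Submodule.finite_sup _ _
    letI := Comodule.subComod C hCsub
    have hι := Comodule.isComodHom_subtype C hCsub
    have hιs : ∀ (ψ : A →ₗ[k] k) (z : C), ((actL ψ z : C) : A) = actL ψ (z : A) := fun ψ z =>
      isComodHom_iff.1 hι (toConv ψ) z
    let D : Submodule k C := m.domain.comap C.subtype
    have hDsub : IsSubcomod (k := k) (A := A) D := Comodule.isSubcomod_comap_subtype hCsub hmsub
    let l : D →ₗ[k] k := m.toFun ∘ₗ (C.subtype ∘ₗ D.subtype).codRestrict m.domain fun z => z.2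
    obtain ⟨φ, hφ, hφl⟩ := exists_inv_extend H hDsub (v₀ := (⟨1, h1C⟩ : C))
      (mem_fixedPts_iff.2 fun ψ => Subtype.ext (by rw [hιs, Submodule.coe_smul]; exact mem_fixedPts_iff.1 hone ψ))
      (show (1 : A) ∈ m.domain from hm1) l
      (fun ψ z => by
        have hmem : actL ψ (((z : C) : A)) ∈ m.domain := isSubcomod_iff.1 hmsub (toConv ψ) _ z.2
        refine Eq.trans (congrArg m.toFun (Subtype.ext (hιs ψ z)) : _ = m ⟨_, hmem⟩) (hminv ψ ⟨_, z.2⟩ hmem))
      hm1'
    let g : A →ₗ.[k] k := ⟨C, φ⟩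
    have hcompat : ∀ (p : m.domain) (q : g.domain), (p : A) = q → m p = g q := fun p q hpq => by
      have hq : (q : C) ∈ D := show (q : A) ∈ m.domain from hpq ▸ p.2
      refine Eq.trans ?_ (hφl ⟨q, hq⟩).symm
      exact congrArg m.toFun (Subtype.ext hpq)
    have hsup : m.sup g hcompat ∈ S := by
      refine ⟨isSubcomod_iff.2 fun χ v hv => ?_, fun ψ z h => ?_, ?_⟩
      · obtain ⟨a, ha, b, hb, rfl⟩ := Submodule.mem_sup.1 (show v ∈ m.domain ⊔ C from hv)
        rw [smul_add]
        exact Submodule.add_mem_sup (isSubcomod_iff.1 hmsub χ a ha) (isSubcomod_iff.1 hCsub χ b hb)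
      · obtain ⟨a, ha, b, hb, hab⟩ := Submodule.mem_sup.1 (show (z : A) ∈ m.domain ⊔ C from z.2)
        have ha' : actL ψ a ∈ m.domain := isSubcomod_iff.1 hmsub (toConv ψ) a ha
        have e1 : actL ψ a + ((actL ψ (⟨b, hb⟩ : C) : C) : A) = actL ψ (z : A) := by
          rw [hιs, ← map_add]; exact congrArg _ hab
        refine (LinearPMap.sup_apply hcompat (⟨_, ha'⟩ : m.domain) (actL ψ (⟨b, hb⟩ : C) : C) ⟨_, h⟩ e1).trans
          (Eq.trans ?_ (congrArg (ψ 1 * ·) (LinearPMap.sup_apply hcompat ⟨a, ha⟩ (⟨b, hb⟩ : C) z hab)).symm)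
        rw [hminv ψ ⟨a, ha⟩ ha', mul_add]
        exact congrArg (_ + ·) (hφ ψ ⟨b, hb⟩)
      · exact ⟨Submodule.mem_sup_left hm1, ((LinearPMap.left_le_sup m g hcompat).2 (x := ⟨1, hm1⟩) rfl).symm.trans hm1'⟩
    exact (hm.le_of_ge hsup (LinearPMap.left_le_sup m g hcompat)).1 (Submodule.mem_sup_right hxC)
  refine ⟨m.toFun ∘ₗ LinearMap.id.codRestrict m.domain htop, hm1', fun y => ?_⟩
  refine sub_eq_zero.1 ((Module.forall_dual_apply_eq_zero_iff k _).1 fun ψ => ?_)
  rw [map_sub, sub_eq_zero, Algebra.algebraMap_eq_smul_one, map_smul, smul_eq_mul, mul_comm]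
  have h := hminv ψ ⟨y, htop y⟩ (htop _)
  refine Eq.trans ?_ h
  change _ = (m.toFun ∘ₗ LinearMap.id.codRestrict m.domain htop) (slice ψ (CoalgebraStruct.comul (R := k) y))
  generalize CoalgebraStruct.comul (R := k) y = z
  generalize m.toFun ∘ₗ LinearMap.id.codRestrict m.domain htop = F
  induction z with
  | zero => simp
  | add a b ha hb => simp only [map_add, ha, hb]
  | tmul a b => simp [mul_comm]

theorem isLinearlyReductive_of_integral {l : A →ₗ[k] k} (hl1 : l 1 = 1)
    (hl : ∀ y, TensorProduct.lid k A (l.rTensor A (CoalgebraStruct.comul (R := k) y)) = algebraMap k A (l y)) :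
    IsLinearlyReductive k A := fun _ _ _ _ _ => isSemisimpleComod_of_integral hl1 hl

theorem isLinearlyReductive_of_hasFixedLifts (H : HasFixedLifts k A) : IsLinearlyReductive k A := by
  obtain ⟨l, hl1, hl⟩ := exists_integral_of_hasFixedLifts H
  exact isLinearlyReductive_of_integral hl1 hl

theorem hasFixedLifts_of_isLinearlyReductive (hG : IsLinearlyReductive k A) : HasFixedLifts k A := by
  intro V _ _ _ hV π hπ hcom
  have hK : IsSubcomod (k := k) (A := A) (LinearMap.ker π) := fun v hv => by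
    refine (Comodule.mem_tens_ker_iff π _).2 ?_
    have := LinearMap.congr_fun hcom v
    simp only [LinearMap.comp_apply, LinearMap.mem_ker.1 hv, map_zero] at this
    exact this
  obtain ⟨N, hN, hc⟩ := hG V hV _ hK
  obtain ⟨v, hv⟩ := hπ 1
  obtain ⟨a, ha, n, hn, hv'⟩ := Submodule.mem_sup.1 (hc.sup_eq_top ▸ Submodule.mem_top : v ∈ LinearMap.ker π ⊔ N)
  have hn1 : π n = 1 := by rw [← hv, ← hv', map_add, LinearMap.mem_ker.1 ha, zero_add]
  refine ⟨n, mem_fixedPts_iff.2 fun ψ => ?_, by rw [hn1]; exact one_ne_zero⟩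
  have hmem : actL ψ n ∈ N := isSubcomod_iff.1 hN (toConv ψ) n hn
  have h := congrArg (slice ψ) (LinearMap.congr_fun hcom n)
  simp only [LinearMap.comp_apply, LinearMap.flip_apply, TensorProduct.mk_apply, slice_rTensor, slice_tmul] at h
  refine sub_eq_zero.1 (Submodule.disjoint_def.1 hc.disjoint _ ?_ (sub_mem hmem (N.smul_mem _ hn)))
  rw [LinearMap.mem_ker, map_sub, map_smul, sub_eq_zero]
  exact h

theorem isLinearlyReductive_iff : IsLinearlyReductive k A ↔ HasFixedLifts k A :=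
  ⟨hasFixedLifts_of_isLinearlyReductive, isLinearlyReductive_of_hasFixedLifts⟩

end Field

end Groth.Agent.CoalgH23
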