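import Groth.Prelude.Def_HopfRep
import Groth.Prelude.Def_Hoch
import Mathlib.RingTheory.Coalgebra.Convolution
import Mathlib.RingTheory.SimpleModule.Basic
import Mathlib.LinearAlgebra.TensorProduct.Basis
import Mathlib.RingTheory.Flat.Basic
import Mathlib.LinearAlgebra.Eigenspace.Triangularizable

/-!
# Comodules over a coalgebra as modules over the dual algebra
-/

universe u v w w'

open TensorProduct HopfRep WithConv

noncomputable section

namespace Groth.Agent.CoalgH23

section Slice

variable {k : Type u} [CommRing k] {C : Type v} [AddCommGroup C] [Module k C]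
variable {V : Type w} [AddCommGroup V] [Module k V] {W : Type w'} [AddCommGroup W] [Module k W]

/-- Apply a functional to the right factor. -/
def slice (χ : C →ₗ[k] k) : V ⊗[k] C →ₗ[k] V := (TensorProduct.rid k V).toLinearMap ∘ₗ χ.lTensor V

@[simp] theorem slice_tmul (χ : C →ₗ[k] k) (v : V) (c : C) : slice χ (v ⊗ₜ[k] c) = χ c • v := by
  simp [slice]

theorem slice_rTensor (χ : C →ₗ[k] k) (f : V →ₗ[k] W) (x : V ⊗[k] C) :
    slice χ (f.rTensor C x) = f (slice χ x) := by
  induction x with
  | zero => simp
  | tmul a c => simp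
  | add a b ha hb => simp only [map_add, ha, hb]

theorem slice_lTensor {D : Type*} [AddCommGroup D] [Module k D] (χ : D →ₗ[k] k) (i : C →ₗ[k] D) (x : V ⊗[k] C) :
    slice χ (i.lTensor V x) = slice (χ ∘ₗ i) x := by
  induction x with
  | zero => simp
  | tmul a c => simp
  | add a b ha hb => simp only [map_add, ha, hb]

theorem slice_mem_of_mem_range (χ : C →ₗ[k] k) (N : Submodule k V) {x : V ⊗[k] C}
    (hx : x ∈ LinearMap.range (N.subtype.rTensor C)) : slice χ x ∈ N := by
  obtain ⟨y, rfl⟩ := hx
  rw [slice_rTensor]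
  exact (slice χ y).2

theorem slice_eq_zero_of_mem_range (χ : C →ₗ[k] k) {D : Submodule k C} (hχ : ∀ d ∈ D, χ d = 0) {x : V ⊗[k] C}
    (hx : x ∈ LinearMap.range (D.subtype.lTensor V)) : slice χ x = 0 := by
  obtain ⟨y, rfl⟩ := hx
  rw [slice_lTensor, show χ ∘ₗ D.subtype = 0 from LinearMap.ext fun d => hχ d d.2]
  simp [slice]

theorem slice_assoc_map {D : Type*} [AddCommGroup D] [Module k D] {U : Type*} [AddCommGroup U] [Module k U]
    (χ : C →ₗ[k] k) (ψ : D →ₗ[k] k) (f : U →ₗ[k] V ⊗[k] C) (z : U ⊗[k] D) :
    slice (LinearMap.mul' k k ∘ₗ TensorProduct.map χ ψ) (TensorProduct.assoc k V C D (f.rTensor D z)) =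
      slice χ (f (slice ψ z)) := by
  induction z with
  | zero => simp
  | add a b ha hb => simp only [map_add, ha, hb]
  | tmul m d =>
    have h3 : ∀ y : V ⊗[k] C, slice (LinearMap.mul' k k ∘ₗ TensorProduct.map χ ψ)
        (TensorProduct.assoc k V C D (y ⊗ₜ[k] d)) = ψ d • slice χ y := by
      intro y
      induction y with
      | zero => simp
      | add a b ha hb => simp only [TensorProduct.add_tmul, map_add, ha, hb, smul_add]
      | tmul a c => simp [smul_smul, mul_comm]
    rw [LinearMap.rTensor_tmul, h3, slice_tmul, map_smul, map_smul]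

variable [Module.Free k C]

theorem eq_of_slice_eq {x y : V ⊗[k] C} (h : ∀ χ : C →ₗ[k] k, slice χ x = slice χ y) : x = y := by
  let b := Module.Free.chooseBasis k C
  let e := TensorProduct.equivFinsuppOfBasisRight (M := V) b
  have key : ∀ z : V ⊗[k] C, ∀ j, e z j = slice (b.coord j) z := by
    intro z j
    induction z with
    | zero => simp
    | tmul v c => simp [e]
    | add p q hp hq => simp only [map_add, Finsupp.add_apply, hp, hq]
  exact e.injective (Finsupp.ext fun j => by rw [key, key, h])

theorem mem_range_rTensor_of_slice (N : Submodule k V) {x : V ⊗[k] C}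
    (h : ∀ χ : C →ₗ[k] k, slice χ x ∈ N) : x ∈ LinearMap.range (N.subtype.rTensor C) := by
  have h0 : N.mkQ.rTensor C x = 0 := eq_of_slice_eq fun χ => by
    rw [slice_rTensor, Submodule.mkQ_apply, (Submodule.Quotient.mk_eq_zero N).2 (h χ), map_zero]
  exact ((rTensor_exact C (LinearMap.exact_subtype_mkQ N) N.mkQ_surjective) x).1 h0

end Slice

section Field

variable {k : Type u} [Field k] {C : Type v} [AddCommGroup C] [Module k C]
variable {V : Type w} [AddCommGroup V] [Module k V]

theorem mem_range_lTensor_of_slice (D : Submodule k C) {x : V ⊗[k] C}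
    (h : ∀ χ : C →ₗ[k] k, (∀ d ∈ D, χ d = 0) → slice χ x = 0) : x ∈ LinearMap.range (D.subtype.lTensor V) := by
  have h0 : D.mkQ.lTensor V x = 0 := eq_of_slice_eq fun ψ => by
    rw [slice_lTensor, h _ (fun d hd => by simp [(Submodule.Quotient.mk_eq_zero D).2 hd]), map_zero]
  exact ((lTensor_exact V (LinearMap.exact_subtype_mkQ D) D.mkQ_surjective) x).1 h0

theorem mem_range_lTensor_iff (D : Submodule k C) (x : V ⊗[k] C) :
    x ∈ LinearMap.range (D.subtype.lTensor V) ↔ ∀ χ : C →ₗ[k] k, (∀ d ∈ D, χ d = 0) → slice χ x = 0 :=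
  ⟨fun hx _ hχ => slice_eq_zero_of_mem_range _ hχ hx, mem_range_lTensor_of_slice D⟩

theorem mem_range_rTensor_iff (N : Submodule k V) (x : V ⊗[k] C) :
    x ∈ LinearMap.range (N.subtype.rTensor C) ↔ ∀ χ : C →ₗ[k] k, slice χ x ∈ N :=
  ⟨fun hx χ => slice_mem_of_mem_range χ N hx, mem_range_rTensor_of_slice N⟩

theorem mem_range_lTensor_of_range (i : C →ₗ[k] V) {W : Type w'} [AddCommGroup W] [Module k W] (x : W ⊗[k] V) :
    x ∈ LinearMap.range (i.lTensor W) ↔
      ∀ χ : V →ₗ[k] k, χ ∘ₗ i = 0 → slice χ x = 0 := by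
  have e : LinearMap.range (i.lTensor W) = LinearMap.range ((LinearMap.range i).subtype.lTensor W) := by
    conv_lhs => rw [show i = (LinearMap.range i).subtype ∘ₗ i.rangeRestrict from rfl, LinearMap.lTensor_comp]
    rw [LinearMap.range_comp_of_range_eq_top]
    exact LinearMap.range_eq_top.2 (LinearMap.lTensor_surjective W i.surjective_rangeRestrict)
  rw [e, mem_range_lTensor_iff]
  refine forall_congr' fun χ => imp_congr_left ⟨fun h => LinearMap.ext fun c => h _ ⟨c, rfl⟩, ?_⟩
  rintro h _ ⟨c, rfl⟩
  exact LinearMap.congr_fun h c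

end Field

section Module

variable {k : Type u} [CommRing k] {C : Type v} [AddCommGroup C] [Module k C] [Coalgebra k C]
variable {V : Type w} [AddCommGroup V] [Module k V] [Comod k C V]

/-- The action of a functional on a comodule. -/
def actL (χ : C →ₗ[k] k) : V →ₗ[k] V := slice χ ∘ₗ Comod.coact (k := k) (A := C)

theorem actL_counit : actL (V := V) (CoalgebraStruct.counit : C →ₗ[k] k) = LinearMap.id := by
  refine LinearMap.ext fun v => ?_
  have h := congrArg (TensorProduct.rid k V) (LinearMap.congr_fun (Comod.counit_comp (k := k) (A := C) (V := V)) v)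
  simpa [actL, slice] using h

theorem slice_mul (χ ψ : WithConv (C →ₗ[k] k)) (v : V) :
    slice (χ * ψ).ofConv (Comod.coact (k := k) (A := C) v) = actL χ.ofConv (actL ψ.ofConv v) := by
  have h1 : ∀ z : V ⊗[k] C, slice (χ * ψ).ofConv z =
      slice (LinearMap.mul' k k ∘ₗ TensorProduct.map χ.ofConv ψ.ofConv)
        ((CoalgebraStruct.comul (R := k) (A := C)).lTensor V z) := by
    intro z
    rw [slice_lTensor, LinearMap.convMul_def]
    rfl
  have hc := LinearMap.congr_fun (Comod.coassoc (k := k) (A := C) (V := V)) v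
  simp only [LinearMap.comp_apply, LinearEquiv.coe_coe] at hc
  rw [h1, ← hc, slice_assoc_map]
  rfl

variable (k C V) in
/-- The representation of the dual algebra. -/
def repHom : WithConv (C →ₗ[k] k) →+* Module.End k V where
  toFun χ := actL χ.ofConv
  map_one' := by
    have : (1 : WithConv (C →ₗ[k] k)).ofConv = CoalgebraStruct.counit (R := k) := by
      ext c; simp [LinearMap.convOne_def]
    rw [this]
    exact actL_counit
  map_mul' χ ψ := LinearMap.ext fun v => slice_mul χ ψ v
  map_zero' := LinearMap.ext fun v => by simp [actL, slice]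
  map_add' χ ψ := LinearMap.ext fun v => by simp [actL, slice, LinearMap.lTensor_add]

/-- A comodule is a module over the dual algebra. -/
scoped instance dualModule : Module (WithConv (C →ₗ[k] k)) V := Module.compHom V (repHom k C V)

theorem smul_def (χ : WithConv (C →ₗ[k] k)) (v : V) : χ • v = slice χ.ofConv (Comod.coact (k := k) (A := C) v) := rfl

scoped instance dualModule_smulComm : SMulCommClass k (WithConv (C →ₗ[k] k)) V :=
  ⟨fun a χ v => (map_smul (actL (V := V) χ.ofConv) a v).symm⟩

scoped instance dualModule_tower : IsScalarTower k (WithConv (C →ₗ[k] k)) V :=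
  ⟨fun a χ v => by simp [smul_def, slice, LinearMap.lTensor_smul]⟩

theorem algebraMap_smul' (a : k) (v : V) : algebraMap k (WithConv (C →ₗ[k] k)) a • v = a • v := by
  rw [Algebra.algebraMap_eq_smul_one, smul_assoc, one_smul]

/-- An additive map commuting with the dual algebra is `k`-linear. -/
theorem isLinear_of_dual {W : Type w'} [AddCommGroup W] [Module k W] [Comod k C W]
    (f : V →ₗ[WithConv (C →ₗ[k] k)] W) (a : k) (v : V) : f (a • v) = a • f v := by
  rw [← algebraMap_smul' (C := C) a v, map_smul, algebraMap_smul']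

end Module

section Over

variable {k : Type u} [Field k] {C : Type v} [AddCommGroup C] [Module k C] [Coalgebra k C]
variable {V : Type w} [AddCommGroup V] [Module k V] [Comod k C V]
variable {W : Type w'} [AddCommGroup W] [Module k W] [Comod k C W]

local notation "R" => WithConv (C →ₗ[k] k)

theorem isSubcomod_iff {N : Submodule k V} :
    IsSubcomod (k := k) (A := C) N ↔ ∀ χ : R, ∀ v ∈ N, χ • v ∈ N := by
  refine ⟨fun h χ v hv => slice_mem_of_mem_range χ.ofConv N (h v hv), fun h v hv => ?_⟩
  exact (mem_range_rTensor_iff N _).2 fun χ => h (toConv χ) v hv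

theorem isSubcomod_restrictScalars (M : Submodule R V) :
    IsSubcomod (k := k) (A := C) (M.restrictScalars k) :=
  isSubcomod_iff.2 fun χ _ hv => M.smul_mem χ hv

/-- A subcomodule as a submodule over the dual algebra. -/
def ofSub (N : Submodule k V) (hN : IsSubcomod (k := k) (A := C) N) : Submodule R V where
  carrier := N
  add_mem' := N.add_mem
  zero_mem' := N.zero_mem
  smul_mem' χ _ hv := isSubcomod_iff.1 hN χ _ hv

@[simp] theorem mem_ofSub {N : Submodule k V} (hN : IsSubcomod (k := k) (A := C) N) {v : V} :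
    v ∈ ofSub N hN ↔ v ∈ N := Iff.rfl

@[simp] theorem ofSub_restrictScalars {N : Submodule k V} (hN : IsSubcomod (k := k) (A := C) N) :
    (ofSub N hN).restrictScalars k = N := rfl

variable (k C V) in
/-- Subcomodules are submodules over the dual algebra. -/
def subEquiv : {N : Submodule k V // IsSubcomod (k := k) (A := C) N} ≃o Submodule R V where
  toFun N := ofSub N.1 N.2
  invFun M := ⟨M.restrictScalars k, isSubcomod_restrictScalars M⟩
  left_inv _ := rfl
  right_inv _ := rfl
  map_rel_iff' := Iff.rfl

theorem isComodHom_iff {f : V →ₗ[k] W} :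
    Hoch.IsComodHom C f ↔ ∀ (χ : R) (v : V), f (χ • v) = χ • f v := by
  refine ⟨fun h χ v => ?_, fun h => LinearMap.ext fun v => eq_of_slice_eq fun χ => ?_⟩
  · rw [smul_def, smul_def, ← slice_rTensor]
    exact congrArg (slice χ.ofConv) (LinearMap.congr_fun h v).symm
  · rw [LinearMap.comp_apply, LinearMap.comp_apply, slice_rTensor]
    exact (h (toConv χ) v).symm

/-- A comodule map as a linear map over the dual algebra. -/
def toDual (f : V →ₗ[k] W) (hf : Hoch.IsComodHom C f) : V →ₗ[R] W where
  toFun := f
  map_add' := map_add f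
  map_smul' χ v := isComodHom_iff.1 hf χ v

@[simp] theorem toDual_apply (f : V →ₗ[k] W) (hf : Hoch.IsComodHom C f) (v : V) : toDual f hf v = f v := rfl

/-- A linear map over the dual algebra as a comodule map. -/
def ofDual (f : V →ₗ[R] W) : V →ₗ[k] W where
  toFun := f
  map_add' := map_add f
  map_smul' a v := isLinear_of_dual f a v

theorem isComodHom_ofDual (f : V →ₗ[R] W) : Hoch.IsComodHom C (ofDual f) :=
  isComodHom_iff.2 fun χ v => map_smul f χ v

/-- A linear equivalence over the dual algebra as a comodule isomorphism. -/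
def ofDualEquiv (f : V ≃ₗ[R] W) : V ≃ₗ[k] W where
  __ := ofDual f.toLinearMap
  invFun := f.symm
  left_inv := f.symm_apply_apply
  right_inv := f.apply_symm_apply

theorem isComodHom_ofDualEquiv (f : V ≃ₗ[R] W) : Hoch.IsComodHom C (ofDualEquiv f : V →ₗ[k] W) :=
  isComodHom_ofDual f.toLinearMap

theorem isSimpleComod_iff : IsSimpleComod k C V ↔ IsSimpleModule R V := by
  rw [isSimpleModule_iff]
  refine ⟨fun ⟨hnt, h⟩ => ?_, fun h => ?_⟩
  · have : Nontrivial (Submodule R V) := (Submodule.nontrivial_iff R).2 hnt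
    refine ⟨fun M => (h _ (isSubcomod_restrictScalars M)).imp (fun e => ?_) (fun e => ?_)⟩
    · exact Submodule.restrictScalars_injective k R V (e.trans (by ext; simp))
    · exact Submodule.restrictScalars_injective k R V (e.trans (by ext; simp))
  · refine ⟨(Submodule.nontrivial_iff R).1 inferInstance, fun N hN => (h.eq_bot_or_eq_top (ofSub N hN)).imp ?_ ?_⟩
    · intro e; ext x; rw [← mem_ofSub hN, e]; simp
    · intro e; ext x; rw [← mem_ofSub hN, e]; simp

theorem isSemisimpleComod_iff : IsSemisimpleComod k C V ↔ IsSemisimpleModule R V := by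
  rw [isSemisimpleModule_iff]
  constructor
  · intro h
    refine ⟨fun M => ?_⟩
    obtain ⟨N, hN, hc⟩ := h _ (isSubcomod_restrictScalars M)
    refine ⟨ofSub N hN, ⟨Submodule.disjoint_def.2 fun x hx hx' => Submodule.disjoint_def.1 hc.disjoint x hx hx', ?_⟩⟩
    rw [codisjoint_iff, Submodule.eq_top_iff']
    intro x
    obtain ⟨a, ha, b, hb, rfl⟩ := Submodule.mem_sup.1 (hc.sup_eq_top ▸ Submodule.mem_top : x ∈ M.restrictScalars k ⊔ N)
    exact Submodule.add_mem_sup ha hb
  · intro h N hN
    obtain ⟨M, hM⟩ := exists_isCompl (ofSub N hN)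
    refine ⟨M.restrictScalars k, isSubcomod_restrictScalars M,
      ⟨Submodule.disjoint_def.2 fun x hx hx' => Submodule.disjoint_def.1 hM.disjoint x hx hx', ?_⟩⟩
    rw [codisjoint_iff, Submodule.eq_top_iff']
    intro x
    obtain ⟨a, ha, b, hb, rfl⟩ := Submodule.mem_sup.1 (hM.sup_eq_top ▸ Submodule.mem_top : x ∈ ofSub N hN ⊔ M)
    exact Submodule.add_mem_sup ha hb

/-- The orbit of a vector under the dual algebra is finite-dimensional. -/
theorem finite_span_singleton (v : V) : Module.Finite k ((Submodule.span R {v}).restrictScalars k) := by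
  classical
  let b := Module.Free.chooseBasis k C
  let e := TensorProduct.equivFinsuppOfBasisRight (M := V) b
  let z := Comod.coact (k := k) (A := C) v
  let N : Submodule k V := Submodule.span k (Set.range fun i : (e z).support => e z i.1)
  have : Module.Finite k N := Module.Finite.span_of_finite k (Set.finite_range _)
  have hz : z ∈ LinearMap.range (N.subtype.rTensor C) := by
    rw [show z = ∑ i ∈ (e z).support, (e z i) ⊗ₜ[k] b i by
      conv_lhs => rw [← e.symm_apply_apply z]
      rw [show e.symm (e z) = (e z).sum fun i m => m ⊗ₜ[k] b i from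
        TensorProduct.equivFinsuppOfBasisRight_symm_apply b (e z)]
      rfl]
    exact Submodule.sum_mem _ fun i hi => ⟨⟨e z i, Submodule.subset_span ⟨⟨i, hi⟩, rfl⟩⟩ ⊗ₜ b i, rfl⟩
  refine Submodule.finiteDimensional_of_le (S₂ := N) fun x hx => ?_
  obtain ⟨χ, rfl⟩ := Submodule.mem_span_singleton.1 hx
  exact slice_mem_of_mem_range χ.ofConv N hz

end Over

end Groth.Agent.CoalgH23
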