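import Groth.Agent.Lib.CoalgH23.Integral
import Mathlib.LinearAlgebra.Basis.VectorSpace

/-!
# Integrals: complements over rings, group-like bases, low-degree cohomology
-/

universe u v w w'

open TensorProduct HopfRep WithConv
open scoped Groth.Agent.CoalgH23

noncomputable section

namespace Groth.Agent.CoalgH23

section Ring

variable {k : Type u} [CommRing k]

/-- A summand which is a subcomodule has a subcomodule complement when there is an integral. -/
theorem exists_isCompl_of_integral {A : Type v} [CommRing A] [HopfAlgebra k A] {V : Type w} [AddCommGroup V]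
    [Module k V] [Comod k A V] {l : A →ₗ[k] k} (hl1 : l 1 = 1)
    (hl : ∀ y, TensorProduct.lid k A (l.rTensor A (CoalgebraStruct.comul (R := k) y)) = algebraMap k A (l y))
    (W : Submodule k V) (hW : IsSubcomod (k := k) (A := A) W) (hsplit : ∃ W' : Submodule k V, IsCompl W W') :
    ∃ W'' : Submodule k V, IsSubcomod (k := k) (A := A) W'' ∧ IsCompl W W'' := by
  obtain ⟨W', hc⟩ := hsplit
  let P : V →ₗ[k] V := W.projection W' hc
  let Q := HopfMod.avg (M := V) (V := V) l P
  have hQ : Hoch.IsComodHom A Q := HopfMod.isComodHom_avg hl P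
  have hP : ∀ w ∈ W, P w = w := fun w hw => Submodule.projection_apply_of_mem_left hc hw
  have hρ : Comod.coact (k := k) (A := A) = Comod.coact (k := k) (A := A) ∘ₗ (LinearMap.id : V →ₗ[k] V) := by simp
  have hmem : ∀ v, Q v ∈ W := by
    intro v
    simp only [Q, HopfMod.avg, LinearMap.comp_apply]
    generalize Comod.coact (k := k) (A := A) v = s
    induction s with
    | zero => simp
    | add p q hp hq => simp only [map_add]; exact add_mem hp hq
    | tmul n a =>
      rw [LinearMap.rTensor_tmul, LinearMap.comp_apply]
      obtain ⟨y, hy⟩ := hW (P n) (Submodule.projection_apply_mem hc n)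
      rw [← hy]
      clear hy
      induction y with
      | zero => simp
      | add p q hp hq => simp only [map_add, TensorProduct.add_tmul]; exact add_mem hp hq
      | tmul p q =>
        rw [LinearMap.rTensor_tmul, HopfMod.twist_tmul]
        exact W.smul_mem _ p.2
  have hfix : ∀ w ∈ W, Q w = w := by
    intro w hw
    obtain ⟨y, hy⟩ := hW w hw
    have e : HopfMod.avg (M := V) (V := V) l LinearMap.id w = w := by rw [HopfMod.avg_id hl1]; rfl
    refine Eq.trans ?_ e
    simp only [Q, HopfMod.avg, LinearMap.comp_apply, ← hy, ← LinearMap.rTensor_comp_apply]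
    refine congrArg _ (LinearMap.congr_fun (congrArg (LinearMap.rTensor A) ?_) y)
    exact LinearMap.ext fun z => by simp [hP z z.2]
  refine ⟨LinearMap.ker Q, fun v hv => ?_, ?_⟩
  · have h1 : (LinearMap.id - Q).rTensor A (Comod.coact (k := k) (A := A) v) = Comod.coact (k := k) (A := A) v := by
      rw [LinearMap.rTensor_sub, LinearMap.sub_apply, LinearMap.rTensor_id, LinearMap.id_apply,
        ← (show Comod.coact (k := k) (A := A) (Q v) = Q.rTensor A (Comod.coact (k := k) (A := A) v) from LinearMap.congr_fun hQ v),
        LinearMap.mem_ker.1 hv, map_zero, sub_zero]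
    have hm : ∀ x, (LinearMap.id - Q : V →ₗ[k] V) x ∈ LinearMap.ker Q := fun x => by
      rw [LinearMap.mem_ker, LinearMap.sub_apply, LinearMap.id_apply, map_sub, hfix _ (hmem x), sub_self]
    refine ⟨((LinearMap.id - Q).codRestrict _ hm).rTensor A (Comod.coact (k := k) (A := A) v), ?_⟩
    rw [← LinearMap.rTensor_comp_apply, LinearMap.subtype_comp_codRestrict, h1]
  · refine ⟨Submodule.disjoint_def.2 fun x hx hx' => ?_, ?_⟩
    · rw [← hfix x hx, LinearMap.mem_ker.1 hx']
    · rw [codisjoint_iff, Submodule.eq_top_iff']
      intro x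
      rw [← add_sub_cancel (Q x) x]
      exact Submodule.add_mem_sup (hmem x) (by rw [LinearMap.mem_ker, map_sub, hfix _ (hmem x), sub_self])

/-- An invariant integral kills the first cohomology. -/
theorem cocycles_one_le {A : Type v} [Ring A] [Bialgebra k A] {V : Type v} [AddCommGroup V] [Module k V] [Comod k A V]
    {l : A →ₗ[k] k} (hl1 : l 1 = 1)
    (hl : ∀ a, slice l (CoalgebraStruct.comul (R := k) a) = l a • (1 : A)) :
    Hoch.cocycles k A V 1 ≤ Hoch.coboundaries k A V 1 := by
  intro z hz
  have h : slice l (Hoch.d k A V 1 z) = 0 := by rw [LinearMap.mem_ker.1 hz]; exact map_zero _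
  rw [d_one_apply] at h
  have e : ∀ z : V ⊗[k] A, slice l ((TensorProduct.assoc k V A A).symm ((CoalgebraStruct.comul (R := k)).lTensor V z)) =
      slice l z ⊗ₜ[k] (1 : A) := by
    intro z
    induction z with
    | zero => simp
    | add a b ha hb => simp only [map_add, TensorProduct.add_tmul, ha, hb]
    | tmul v a =>
      have e2 : ∀ t : A ⊗[k] A, slice l ((TensorProduct.assoc k V A A).symm (v ⊗ₜ[k] t)) = v ⊗ₜ[k] slice l t := by
        intro t
        induction t with
        | zero => simp
        | add a b ha hb => simp only [TensorProduct.tmul_add, map_add, ha, hb]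
        | tmul a b => simp
      rw [LinearMap.lTensor_tmul, e2, hl, slice_tmul, TensorProduct.smul_tmul]
  simp only [map_add, map_sub, slice_rTensor, e, slice_tmul, hl1, one_smul] at h
  refine ⟨-slice l z, ?_⟩
  rw [map_neg, Hoch.d_zero_apply]
  exact (eq_neg_iff_add_eq_zero.2 ((add_comm _ _).trans h)).symm

end Ring

section Field

variable {k : Type u} [Field k] {A : Type v} [CommRing A] [HopfAlgebra k A]

/-- A diagonalizable group has an integral. -/
theorem exists_integral_of_isDiagonalizable (h : IsDiagonalizable k A) :
    ∃ l : A →ₗ[k] k, l 1 = 1 ∧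
      ∀ y, TensorProduct.lid k A (l.rTensor A (CoalgebraStruct.comul (R := k) y)) = algebraMap k A (l y) := by
  classical
  let b : Module.Basis {a : A // IsGroupLikeElem k a} k A :=
    Module.Basis.mk (v := Subtype.val) linearIndepOn_isGroupLikeElem (by rw [Subtype.range_coe_subtype]; exact h.ge)
  have hb : ∀ a, b a = (a : A) := fun a => Module.Basis.mk_apply _ _ a
  let one : {a : A // IsGroupLikeElem k a} := ⟨1, IsGroupLikeElem.one⟩
  refine ⟨b.coord one, ?_, fun y => ?_⟩
  · rw [show (1 : A) = b one from (hb one).symm, Module.Basis.coord_apply, b.repr_self, Finsupp.single_eq_same]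
  · refine LinearMap.congr_fun (b.ext fun a => ?_ : (TensorProduct.lid k A).toLinearMap ∘ₗ (b.coord one).rTensor A ∘ₗ
      CoalgebraStruct.comul (R := k) = Algebra.linearMap k A ∘ₗ b.coord one) y
    simp only [LinearMap.comp_apply, LinearEquiv.coe_coe, Algebra.linearMap_apply]
    rw [hb a, a.2.comul_eq_tmul_self, LinearMap.rTensor_tmul, TensorProduct.lid_tmul, ← hb a, Module.Basis.coord_apply,
      b.repr_self]
    by_cases hh : a = one
    · subst hh
      rw [Finsupp.single_eq_same, map_one, one_smul, hb]
    · rw [Finsupp.single_eq_of_ne' hh, zero_smul, map_zero]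

theorem isLinearlyReductive_of_isDiagonalizable (h : IsDiagonalizable k A) : IsLinearlyReductive k A := by
  obtain ⟨l, hl1, hl⟩ := exists_integral_of_isDiagonalizable h
  exact isLinearlyReductive_of_integral hl1 hl

/-- Diagonalizability through eigenvectors of finite comodules. -/
theorem isDiagonalizable_iff_span :
    IsDiagonalizable k A ↔ ∀ (V : Type v) [AddCommGroup V] [Module k V] [Comod k A V], Module.Finite k V →
      Submodule.span k {v : V | ∃ a : A, Comod.coact (k := k) (A := A) v = v ⊗ₜ[k] a} = ⊤ := by
  classical
  constructor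
  · intro h V _ _ _ _
    let b : Module.Basis {a : A // IsGroupLikeElem k a} k A :=
      Module.Basis.mk (v := Subtype.val) linearIndepOn_isGroupLikeElem (by rw [Subtype.range_coe_subtype]; exact h.ge)
    have hb : ∀ a, b a = (a : A) := fun a => Module.Basis.mk_apply _ _ a
    have heig : ∀ (v : V) (a : {a : A // IsGroupLikeElem k a}),
        Comod.coact (k := k) (A := A) (slice (b.coord a) (Comod.coact (k := k) (A := A) v)) =
          slice (b.coord a) (Comod.coact (k := k) (A := A) v) ⊗ₜ[k] (a : A) := by
      intro v a
      refine eq_of_slice_eq fun χ => ?_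
      rw [slice_tmul]
      change (toConv χ) • (toConv (b.coord a)) • v = χ a • (toConv (b.coord a) • v)
      rw [← mul_smul, ← smul_assoc]
      congr 1
      refine WithConv.ofConv_injective (b.ext fun c => ?_)
      rw [hb, LinearMap.convMul_def]
      simp only [WithConv.ofConv_toConv, LinearMap.comp_apply, c.2.comul_eq_tmul_self, TensorProduct.map_tmul,
        LinearMap.mul'_apply]
      show χ (c : A) * b.coord a (c : A) = χ a * b.coord a (c : A)
      rw [← hb c, Module.Basis.coord_apply, b.repr_self]
      by_cases hh : c = a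
      · subst hh; rw [hb]
      · rw [Finsupp.single_eq_of_ne' hh, mul_zero, mul_zero]
    refine eq_top_iff.2 fun v _ => ?_
    let Φ := TensorProduct.equivFinsuppOfBasisRight (M := V) b
    have hcoord : ∀ (z : V ⊗[k] A) a, Φ z a = slice (b.coord a) z := by
      intro z a
      induction z with
      | zero => simp
      | tmul p q => simp [Φ]
      | add p q hp hq => simp only [map_add, Finsupp.add_apply, hp, hq]
    have hsum : Comod.coact (k := k) (A := A) v =
        ∑ a ∈ (Φ (Comod.coact (k := k) (A := A) v)).support, Φ (Comod.coact (k := k) (A := A) v) a ⊗ₜ[k] b a := by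
      conv_lhs => rw [← Φ.symm_apply_apply (Comod.coact (k := k) (A := A) v)]
      rw [show Φ.symm (Φ (Comod.coact (k := k) (A := A) v)) = (Φ (Comod.coact (k := k) (A := A) v)).sum fun i m => m ⊗ₜ[k] b i from
        TensorProduct.equivFinsuppOfBasisRight_symm_apply b _]
      rfl
    have hv : v = slice (CoalgebraStruct.counit (R := k) (A := A)) (Comod.coact (k := k) (A := A) v) :=
      (LinearMap.congr_fun (actL_counit (k := k) (C := A) (V := V)) v).symm
    rw [hv, hsum, map_sum]
    refine Submodule.sum_mem _ fun a _ => ?_
    rw [slice_tmul, hb, a.2.counit_eq_one, one_smul, hcoord]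
    exact Submodule.subset_span ⟨_, heig v a⟩
  · intro H
    refine eq_top_iff.2 fun x _ => ?_
    let W := (Submodule.span (WithConv (A →ₗ[k] k)) {x}).restrictScalars k
    have hW : IsSubcomod (k := k) (A := A) W := isSubcomod_restrictScalars _
    letI := Comodule.subComod W hW
    have hfin : Module.Finite k W := finite_span_singleton x
    have hspan := H W hfin
    have key : ∀ w : W, (∃ a : A, Comod.coact (k := k) (A := A) w = w ⊗ₜ[k] a) →
        (w : A) ∈ Submodule.span k {a : A | IsGroupLikeElem k a} := by
      rintro w ⟨a, ha⟩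
      have h1 : CoalgebraStruct.comul (R := k) (w : A) = (w : A) ⊗ₜ[k] a := by
        refine (LinearMap.congr_fun (Comodule.isComodHom_subtype W hW) w).trans ?_
        rw [LinearMap.comp_apply, ha, LinearMap.rTensor_tmul]
        rfl
      rcases eq_or_ne (w : A) 0 with h0 | h0
      · rw [h0]; exact zero_mem _
      have h2 : (w : A) = CoalgebraStruct.counit (R := k) (w : A) • a := by
        have h := congrArg (TensorProduct.lid k A) (Coalgebra.rTensor_counit_comul (R := k) (w : A))
        rw [h1, LinearMap.rTensor_tmul] at h
        simpa using h.symm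
      have he : CoalgebraStruct.counit (R := k) (w : A) ≠ 0 := fun e => h0 (by rw [h2, e, zero_smul])
      have ha1 : CoalgebraStruct.counit (R := k) a = 1 := by
        have h := congrArg (CoalgebraStruct.counit (R := k)) h2
        rw [map_smul, smul_eq_mul] at h
        exact (mul_eq_left₀ he).1 h.symm
      have haa : CoalgebraStruct.comul (R := k) a = a ⊗ₜ[k] a := by
        have h := congrArg (CoalgebraStruct.comul (R := k)) h2
        rw [h1, map_smul, h2, ← TensorProduct.smul_tmul'] at h
        rw [map_smul, ha1, smul_eq_mul, mul_one] at h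
        exact (smul_right_injective _ he h).symm
      rw [h2]
      exact Submodule.smul_mem _ _ (Submodule.subset_span ⟨ha1, haa⟩)
    have hx : (⟨x, Submodule.mem_span_singleton_self x⟩ : W) ∈
        Submodule.span k {v : W | ∃ a : A, Comod.coact (k := k) (A := A) v = v ⊗ₜ[k] a} := hspan ▸ Submodule.mem_top
    have := Submodule.apply_mem_span_image_of_mem_span W.subtype hx
    exact Submodule.span_le.2 (by rintro _ ⟨w, hw, rfl⟩; exact key w hw) this

end Field

end Groth.Agent.CoalgH23
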