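import Groth.Agent.Lib.CoalgH23.Trig

/-!
# The fixed-point filtration
-/

universe u v w

open TensorProduct HopfRep WithConv
open scoped Groth.Agent.CoalgH23

noncomputable section

namespace Groth.Agent.CoalgH23

variable (k : Type u) [Field k] (A : Type v) [CommRing A] [HopfAlgebra k A]
variable (V : Type w) [AddCommGroup V] [Module k V] [Comod k A V]

/-- `ρ v - v ⊗ 1`. -/
def devMap : V →ₗ[k] V ⊗[k] A := Comod.coact - (TensorProduct.mk k V A).flip 1

/-- The iterated fixed-point filtration: `fixFil (n + 1) / fixFil n` is the fixed space of `V / fixFil n`. -/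
def fixFil : ℕ → Submodule k V
  | 0 => ⊥
  | n + 1 => (LinearMap.range ((fixFil n).subtype.rTensor A)).comap (devMap k A V)

variable {k A V}

theorem mem_fixFil_succ {n : ℕ} {v : V} :
    v ∈ fixFil k A V (n + 1) ↔
      Comod.coact (k := k) (A := A) v - v ⊗ₜ[k] (1 : A) ∈ LinearMap.range ((fixFil k A V n).subtype.rTensor A) :=
  Iff.rfl

theorem smul_sub_mem {n : ℕ} {v : V} (hv : v ∈ fixFil k A V (n + 1)) (χ : WithConv (A →ₗ[k] k)) :
    χ • v - χ.ofConv 1 • v ∈ fixFil k A V n := by
  have h := slice_mem_of_mem_range χ.ofConv _ (mem_fixFil_succ.1 hv)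
  rwa [map_sub, show slice χ.ofConv (v ⊗ₜ[k] (1 : A)) = χ.ofConv 1 • v by simp [slice]] at h

theorem mem_fixFil_succ_of_smul {n : ℕ} {v : V}
    (h : ∀ χ : WithConv (A →ₗ[k] k), χ • v - χ.ofConv 1 • v ∈ fixFil k A V n) : v ∈ fixFil k A V (n + 1) := by
  refine mem_fixFil_succ.2 ((mem_range_rTensor_iff _ _).2 fun χ => ?_)
  rw [map_sub, show slice χ (v ⊗ₜ[k] (1 : A)) = χ 1 • v by simp [slice]]
  exact h (toConv χ)

theorem isSubcomod_fixFil_and_le (n : ℕ) :
    IsSubcomod (k := k) (A := A) (fixFil k A V n) ∧ fixFil k A V n ≤ fixFil k A V (n + 1) := by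
  induction n with
  | zero =>
    refine ⟨isSubcomod_iff.2 fun χ v hv => ?_, fun v hv => mem_fixFil_succ_of_smul fun χ => ?_⟩
    · rw [show fixFil k A V 0 = ⊥ from rfl, Submodule.mem_bot] at hv ⊢
      rw [hv, smul_zero]
    · rw [show fixFil k A V 0 = ⊥ from rfl, Submodule.mem_bot] at hv ⊢
      rw [hv, smul_zero, smul_zero, sub_zero]
  | succ n ih =>
    have hs : IsSubcomod (k := k) (A := A) (fixFil k A V (n + 1)) := isSubcomod_iff.2 fun χ v hv => by
      have h := add_mem (ih.2 (smul_sub_mem hv χ)) ((fixFil k A V (n + 1)).smul_mem (χ.ofConv 1) hv)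
      simpa using h
    exact ⟨hs, fun v hv => mem_fixFil_succ_of_smul fun χ =>
      sub_mem (isSubcomod_iff.1 hs χ v hv) (Submodule.smul_mem _ _ hv)⟩

theorem fixFil_mono : Monotone (fixFil k A V) := monotone_nat_of_le_succ fun n => (isSubcomod_fixFil_and_le n).2

theorem isSubcomod_fixFil (n : ℕ) : IsSubcomod (k := k) (A := A) (fixFil k A V n) := (isSubcomod_fixFil_and_le n).1

theorem le_fixFil_finrank {V : Type v} [AddCommGroup V] [Module k V] [Comod k A V] (hU : IsUnipotent k A)
    {L : Submodule k V} [FiniteDimensional k L] (hL : IsSubcomod (k := k) (A := A) L) :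
    L ≤ fixFil k A V (Module.finrank k L) := by
  by_contra hne
  have key : ∀ n, n ≤ Module.finrank k L → n ≤ Module.finrank k (L ⊓ fixFil k A V n : Submodule k V) := by
    intro n hn
    induction n with
    | zero => exact Nat.zero_le _
    | succ n ih =>
      have hnot : ¬ L ≤ fixFil k A V n := fun h => hne (h.trans (fixFil_mono (by omega)))
      obtain ⟨v, hv, hvn, hvs⟩ := exists_fixed_mod hU (isSubcomod_fixFil n) hL hnot
      have hlt : L ⊓ fixFil k A V n < L ⊓ fixFil k A V (n + 1) :=
        lt_of_le_of_ne (inf_le_inf_left _ (fixFil_mono (Nat.le_succ n))) fun e =>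
          hvn (e.ge ⟨hv, mem_fixFil_succ.2 hvs⟩).2
      have : FiniteDimensional k (L ⊓ fixFil k A V (n + 1) : Submodule k V) :=
        Submodule.finiteDimensional_of_le inf_le_left
      have h1 := Submodule.finrank_lt_finrank_of_lt hlt
      have h2 := ih (by omega)
      omega
  have h3 := key _ le_rfl
  have h4 : L ⊓ fixFil k A V (Module.finrank k L) < L := lt_of_le_of_ne inf_le_left fun e => hne (e.ge.trans inf_le_right)
  have h5 := Submodule.finrank_lt_finrank_of_lt h4
  omega

section Regular

variable {k : Type u} [Field k] {A : Type v} [CommRing A] [HopfAlgebra k A]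

theorem lslice_smul (φ : A →ₗ[k] k) (χ : WithConv (A →ₗ[k] k)) (x : A) :
    χ • lslice φ (CoalgebraStruct.comul (R := k) x) = lslice φ (CoalgebraStruct.comul (R := k) (χ • x)) := by
  have h : ∀ z : A ⊗[k] A, slice χ.ofConv (CoalgebraStruct.comul (R := k) (lslice φ z)) =
      lslice φ ((slice χ.ofConv).lTensor A ((CoalgebraStruct.comul (R := k)).lTensor A z)) := by
    intro z
    induction z with
    | zero => simp
    | add p q hp hq => simp only [map_add, hp, hq]
    | tmul p q => simp [lslice]
  rw [smul_def]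
  refine (h _).trans ?_
  rw [← Coalgebra.coassoc_apply]
  congr 1
  rw [smul_def]
  show _ = CoalgebraStruct.comul (R := k) (slice χ.ofConv (CoalgebraStruct.comul (R := k) x))
  generalize CoalgebraStruct.comul (R := k) x = z
  induction z with
  | zero => simp
  | add p q hp hq => simp only [map_add, hp, hq]
  | tmul p q =>
    simp only [LinearMap.rTensor_tmul, slice, LinearMap.comp_apply, LinearMap.lTensor_tmul, LinearEquiv.coe_coe,
      TensorProduct.rid_tmul, map_smul]
    generalize CoalgebraStruct.comul (R := k) p = y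
    induction y with
    | zero => simp
    | add a b ha hb => simp only [TensorProduct.add_tmul, map_add, smul_add, ha, hb]
    | tmul a b => simp [TensorProduct.tmul_smul]

theorem lslice_counit (x : A) : lslice (CoalgebraStruct.counit (R := k)) (CoalgebraStruct.comul (R := k) x) = x := by
  show TensorProduct.lid k A ((CoalgebraStruct.counit (R := k)).rTensor A (CoalgebraStruct.comul (R := k) x)) = x
  rw [Coalgebra.rTensor_counit_comul, TensorProduct.lid_tmul, one_smul]

theorem fixFil_one_eq : fixFil k A A 1 = Submodule.span k {(1 : A)} := by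
  refine le_antisymm (fun x hx => ?_) ?_
  ·
    have h1 : CoalgebraStruct.comul (R := k) x - x ⊗ₜ[k] (1 : A) = 0 := by
      obtain ⟨z, hz⟩ := mem_fixFil_succ.1 hx
      refine hz.symm.trans ?_
      rw [show (fixFil k A A 0).subtype = 0 from LinearMap.ext fun y => (Submodule.mem_bot k).1 y.2,
        LinearMap.rTensor_zero, LinearMap.zero_apply]
    have h2 := congrArg (lslice (CoalgebraStruct.counit (R := k))) (sub_eq_zero.1 h1)
    rw [lslice_counit] at h2
    refine Submodule.mem_span_singleton.2 ⟨CoalgebraStruct.counit (R := k) x, ?_⟩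
    refine Eq.trans ?_ h2.symm
    simp [lslice]
  · rw [Submodule.span_singleton_le_iff_mem, mem_fixFil_succ,
      show Comod.coact (k := k) (A := A) (1 : A) = (1 : A) ⊗ₜ[k] (1 : A) from Bialgebra.comul_one, sub_self]
    exact zero_mem _

theorem lslice_mem {i : ℕ} {φ : A →ₗ[k] k} (hφ : ∀ y ∈ fixFil k A A (i + 1), φ y = 0) :
    ∀ (s : ℕ) {x : A}, x ∈ fixFil k A A (i + s + 2) → lslice φ (CoalgebraStruct.comul (R := k) x) ∈ fixFil k A A (s + 1) := by
  have h0 : ∀ y ∈ fixFil k A A (i + 1), lslice φ (CoalgebraStruct.comul (R := k) y) = 0 := by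
    intro y hy
    obtain ⟨z, hz⟩ := isSubcomod_fixFil (i + 1) y hy
    rw [show CoalgebraStruct.comul (R := k) y = _ from hz.symm]
    clear hz
    induction z with
    | zero => simp
    | add p q hp hq => simp only [map_add, hp, hq, add_zero]
    | tmul p q => simp [lslice, hφ p.1 p.2]
  have hχ : ∀ (χ : WithConv (A →ₗ[k] k)) (x : A),
      χ • lslice φ (CoalgebraStruct.comul (R := k) x) - χ.ofConv 1 • lslice φ (CoalgebraStruct.comul (R := k) x) =
        lslice φ (CoalgebraStruct.comul (R := k) (χ • x - χ.ofConv 1 • x)) := fun χ x => by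
    rw [lslice_smul, ← map_smul (lslice φ), ← map_smul (CoalgebraStruct.comul (R := k) (A := A)), ← map_sub, ← map_sub]
  intro s
  induction s with
  | zero =>
    intro x hx
    refine mem_fixFil_succ_of_smul fun χ => ?_
    rw [hχ, h0 _ (smul_sub_mem hx χ)]
    exact zero_mem _
  | succ s ih =>
    intro x hx
    refine mem_fixFil_succ_of_smul fun χ => ?_
    rw [hχ]
    exact ih (smul_sub_mem hx χ)

theorem mem_iSup_range_mapIncl {D E : ℕ → Submodule k A} (hE : Antitone E) :
    ∀ (n : ℕ) {z : A ⊗[k] A}, (∃ w, (D n).subtype.rTensor A w = z) → Monotone D →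
      (∀ i, i < n → TensorProduct.map (D i).mkQ (E i).mkQ z = 0) →
      ∃ a b, a ∈ LinearMap.range ((D 0).subtype.rTensor A) ∧
        b ∈ ⨆ i ∈ Finset.Ico 1 (n + 1), LinearMap.range (TensorProduct.mapIncl (D i) (E (i - 1))) ∧ z = a + b := by
  intro n
  induction n with
  | zero => intro z hz _ _; exact ⟨z, 0, hz, zero_mem _, (add_zero z).symm⟩
  | succ n ih =>
    rintro z ⟨w, rfl⟩ hD hcond
    obtain ⟨q, hq⟩ := (D (n + 1)).subtype.exists_leftInverse_of_injective (D (n + 1)).ker_subtype
    have h := hcond n (Nat.lt_succ_self n)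
    have hker := TensorProduct.map_ker (LinearMap.exact_subtype_mkQ (D n)) (D n).mkQ_surjective
      (LinearMap.exact_subtype_mkQ (E n)) (E n).mkQ_surjective
    rw [← LinearMap.mem_ker, hker] at h
    obtain ⟨b, ⟨b', rfl⟩, a, ⟨a', rfl⟩, hab⟩ := Submodule.mem_sup.1 h
    let P : A →ₗ[k] A := (D (n + 1)).subtype ∘ₗ q
    have hP : ∀ y ∈ D (n + 1), P y = y := fun y hy => congrArg Subtype.val (LinearMap.congr_fun hq ⟨y, hy⟩)
    have hPz : P.rTensor A ((D (n + 1)).subtype.rTensor A w) = (D (n + 1)).subtype.rTensor A w := by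
      rw [← LinearMap.rTensor_comp_apply, show P ∘ₗ (D (n + 1)).subtype = (D (n + 1)).subtype from
        LinearMap.ext fun y => hP y.1 y.2]
    have hPa : P.rTensor A ((D n).subtype.rTensor A a') = (D n).subtype.rTensor A a' := by
      rw [← LinearMap.rTensor_comp_apply, show P ∘ₗ (D n).subtype = (D n).subtype from
        LinearMap.ext fun y => hP y.1 (hD (Nat.le_succ n) y.2)]
    have hz : (D (n + 1)).subtype.rTensor A w =
        (D n).subtype.rTensor A a' + TensorProduct.mapIncl (D (n + 1)) (E n) (q.rTensor (E n) b') := by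
      rw [← hPz, ← hab, map_add, hPa, add_comm]
      congr 1
      rw [← LinearMap.comp_apply, LinearMap.rTensor_comp_lTensor, TensorProduct.mapIncl, ← LinearMap.comp_apply,
        LinearMap.map_comp_rTensor]
    have hb : ∀ i, i < n → TensorProduct.map (D i).mkQ (E i).mkQ
        (TensorProduct.mapIncl (D (n + 1)) (E n) (q.rTensor (E n) b')) = 0 := by
      intro i hi
      rw [TensorProduct.mapIncl, ← LinearMap.comp_apply, ← TensorProduct.map_comp,
        show (E i).mkQ ∘ₗ (E n).subtype = 0 from LinearMap.ext fun y =>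
          (Submodule.Quotient.mk_eq_zero _).2 (hE hi.le y.2), TensorProduct.map_zero_right, LinearMap.zero_apply]
    obtain ⟨a₀, b₀, ha₀, hb₀, e⟩ := ih ⟨a', rfl⟩ hD fun i hi => by
      have := hcond i (by omega)
      rwa [hz, map_add, hb i hi, add_zero] at this
    refine ⟨a₀, b₀ + TensorProduct.mapIncl (D (n + 1)) (E n) (q.rTensor (E n) b'), ha₀, add_mem ?_ ?_, ?_⟩
    · exact (biSup_mono fun i hi => by simp only [Finset.mem_Ico] at hi ⊢; omega : _ ≤ (_ : Submodule k (A ⊗[k] A))) hb₀
    · exact le_biSup (fun i => LinearMap.range (TensorProduct.mapIncl (D i) (E (i - 1))))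
        (show n + 1 ∈ Finset.Ico 1 (n + 1 + 1) by simp) ⟨_, rfl⟩
    · rw [← add_assoc, ← e, hz]

theorem map_comul_fixFil_le (r : ℕ) :
    (fixFil k A A (r + 1)).map (CoalgebraStruct.comul (R := k) (A := A)) ≤
      ⨆ i ∈ Finset.range (r + 1),
        LinearMap.range (TensorProduct.mapIncl (fixFil k A A (i + 1)) (fixFil k A A (r - i + 1))) := by
  rintro _ ⟨x, hx, rfl⟩
  have hcond : ∀ i, i < r → TensorProduct.map (fixFil k A A (i + 1)).mkQ (fixFil k A A (r - i - 1 + 1)).mkQ
      (CoalgebraStruct.comul (R := k) x) = 0 := by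
    intro i hi
    apply (TensorProduct.comm k _ _).injective
    rw [map_zero]
    refine eq_of_slice_eq fun ψ => ?_
    rw [map_zero]
    have h : ∀ z : A ⊗[k] A, slice ψ (TensorProduct.comm k _ _
        (TensorProduct.map (fixFil k A A (i + 1)).mkQ (fixFil k A A (r - i - 1 + 1)).mkQ z)) =
          (fixFil k A A (r - i - 1 + 1)).mkQ (lslice (ψ ∘ₗ (fixFil k A A (i + 1)).mkQ) z) := by
      intro z
      induction z with
      | zero => simp
      | add p q hp hq => simp only [map_add, hp, hq]
      | tmul p q => simp [slice, lslice]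
    rw [h, Submodule.mkQ_apply, Submodule.Quotient.mk_eq_zero]
    refine lslice_mem (i := i) (fun y hy => by simp [(Submodule.Quotient.mk_eq_zero _).2 hy]) (r - i - 1) ?_
    rwa [show i + (r - i - 1) + 2 = r + 1 by omega]
  obtain ⟨a, b, ⟨a', ha⟩, hb, he⟩ := mem_iSup_range_mapIncl (D := fun i => fixFil k A A (i + 1))
    (E := fun i => fixFil k A A (r - i - 1 + 1)) (fun i j hij => fixFil_mono (by omega)) r
    (isSubcomod_fixFil (r + 1) x hx) (fun i j hij => fixFil_mono (by omega)) hcond
  rw [show CoalgebraStruct.comul (R := k) x = a + b from he]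
  have hle : ∀ i ∈ Finset.Ico 1 (r + 1),
      LinearMap.range (TensorProduct.mapIncl (fixFil k A A (i + 1)) (fixFil k A A (r - (i - 1) - 1 + 1))) ≤
      ⨆ j ∈ Finset.range (r + 1),
        LinearMap.range (TensorProduct.mapIncl (fixFil k A A (j + 1)) (fixFil k A A (r - j + 1))) := by
    intro i hi
    simp only [Finset.mem_Ico] at hi
    refine le_trans ?_ (le_biSup _ (show i ∈ Finset.range (r + 1) by simp; omega))
    rw [show r - (i - 1) - 1 + 1 = r - i + 1 by omega]
  refine add_mem ?_ (iSup₂_le hle hb)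
  have hconst : ∀ w : fixFil k A A (0 + 1) ⊗[k] A,
      (fixFil k A A (0 + 1)).subtype.rTensor A w =
        (1 : A) ⊗ₜ[k] lslice (CoalgebraStruct.counit (R := k)) ((fixFil k A A (0 + 1)).subtype.rTensor A w) := by
    intro w
    induction w with
    | zero => simp
    | add p q hp hq => simp only [map_add, TensorProduct.tmul_add, ← hp, ← hq]
    | tmul p q =>
      obtain ⟨c, hc⟩ := Submodule.mem_span_singleton.1 ((fixFil_one_eq (k := k) (A := A)).le p.2)
      simp only [LinearMap.rTensor_tmul, Submodule.subtype_apply, ← hc]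
      simp [lslice, TensorProduct.smul_tmul]
  rw [← ha, hconst, ha]
  have hy : lslice (CoalgebraStruct.counit (R := k)) a ∈ fixFil k A A (r + 1) := by
    have h1 : lslice (CoalgebraStruct.counit (R := k)) b ∈ fixFil k A A (r + 1) := by
      have : (⨆ i ∈ Finset.Ico 1 (r + 1), LinearMap.range (TensorProduct.mapIncl (fixFil k A A (i + 1))
          (fixFil k A A (r - (i - 1) - 1 + 1)))) ≤ (fixFil k A A (r + 1)).comap
            (lslice (CoalgebraStruct.counit (R := k))) := by
        refine iSup₂_le fun i hi => ?_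
        rintro _ ⟨w, rfl⟩
        induction w with
        | zero => simp
        | add p q hp hq => simp only [map_add]; exact add_mem hp hq
        | tmul p q =>
          simp only [Submodule.mem_comap, TensorProduct.mapIncl, TensorProduct.map_tmul, lslice]
          simp only [LinearMap.comp_apply, LinearMap.rTensor_tmul, LinearEquiv.coe_coe, TensorProduct.lid_tmul]
          exact Submodule.smul_mem _ _ (fixFil_mono (by simp only [Finset.mem_Ico] at hi; omega) q.2)
      exact this hb
    have h2 := lslice_counit (k := k) x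
    rw [show CoalgebraStruct.comul (R := k) x = a + b from he, map_add] at h2
    rw [show lslice (CoalgebraStruct.counit (R := k)) a = x - lslice (CoalgebraStruct.counit (R := k)) b by
      rw [← h2, add_sub_cancel_right]]
    exact sub_mem hx h1
  refine le_biSup (fun j => LinearMap.range (TensorProduct.mapIncl (fixFil k A A (j + 1)) (fixFil k A A (r - j + 1))))
    (show 0 ∈ Finset.range (r + 1) by simp) ?_
  exact ⟨⟨1, (fixFil_one_eq (k := k) (A := A)).ge (Submodule.mem_span_singleton_self _)⟩ ⊗ₜ[k]
    ⟨_, by rw [Nat.sub_zero]; exact hy⟩, rfl⟩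

end Regular

end Groth.Agent.CoalgH23

namespace Groth.Agent.CoalgH23

theorem mem_fixedPts_iff' {k : Type u} [Field k] {A : Type v} [CommRing A] [HopfAlgebra k A]
    {V : Type w} [AddCommGroup V] [Module k V] [Comod k A V] {v : V} :
    v ∈ fixedPts k A V ↔ ∀ χ : WithConv (A →ₗ[k] k), χ • v = χ.ofConv 1 • v :=
  ⟨fun h χ => by
    rw [smul_def, show Comod.coact (k := k) (A := A) v = v ⊗ₜ[k] (1 : A) from h]; simp [slice],
   fun h => eq_of_slice_eq fun χ => by
    rw [show slice χ (v ⊗ₜ[k] (1 : A)) = χ 1 • v by simp [slice]]; exact h (toConv χ)⟩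

theorem slice_tmul' {k : Type u} [Field k] {A : Type v} [AddCommGroup A] [Module k A] {V : Type w}
    [AddCommGroup V] [Module k V] (χ : A →ₗ[k] k) (v : V) (a : A) : slice χ (v ⊗ₜ[k] a) = χ a • v := by
  simp [slice]

end Groth.Agent.CoalgH23
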