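import Groth.Agent.Lib.CoalgH23.Dual
import Groth.Agent.Lib.HopfMod.Basic
import Groth.Prelude.Def_Hoch
import Mathlib.RingTheory.Flat.EquationalCriterion

/-!
# Fixed vectors of `B ⊗ M^*` are comodule maps `M → B`
-/

universe u v w w'

open TensorProduct HopfRep

noncomputable section

namespace Groth.Agent.CoalgH23

section Flat

variable {k : Type u} [CommRing k] {M : Type w} [AddCommGroup M] [Module k M]
variable {N : Type w'} [AddCommGroup N] [Module k N] [Module.Flat k N]

theorem dualTensorHom_surjective_of_flat [Module.FinitePresentation k M] :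
    Function.Surjective (dualTensorHom k M N) := by
  intro h
  obtain ⟨n, h₂, h₃, rfl⟩ := Module.Flat.exists_factorization_of_finitePresentation h
  refine ⟨∑ i, (Finsupp.lapply i ∘ₗ h₂) ⊗ₜ[k] h₃ (Finsupp.single i 1), LinearMap.ext fun m => ?_⟩
  rw [map_sum, LinearMap.sum_apply]
  simp only [dualTensorHom_apply, LinearMap.comp_apply, Finsupp.lapply_apply, ← map_smul]
  rw [← map_sum]
  simp [Finsupp.univ_sum_single]

theorem dualTensorHom_injective_of_flat [Module.Finite k M] :
    Function.Injective (dualTensorHom k M N) := by
  rw [injective_iff_map_eq_zero]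
  intro z hz
  obtain ⟨s, rfl⟩ := TensorProduct.exists_finset z
  let e := s.equivFin
  let f : Fin s.card → Module.Dual k M := fun i => (e.symm i).1.1
  let n : Fin s.card → N := fun i => (e.symm i).1.2
  have hsum : (∑ i ∈ s, i.1 ⊗ₜ[k] i.2) = ∑ i, f i ⊗ₜ[k] n i := by
    rw [← s.sum_coe_sort fun i => i.1 ⊗ₜ[k] i.2]
    exact (Equiv.sum_comp e.symm fun i : s => i.1.1 ⊗ₜ[k] i.1.2).symm
  rw [hsum] at hz ⊢
  let g : (Fin s.card → k) →ₗ[k] N := Fintype.linearCombination k n
  have hg : g ∘ₗ LinearMap.pi f = 0 := LinearMap.ext fun m => by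
    have := LinearMap.congr_fun hz m
    simp only [map_sum, LinearMap.sum_apply, dualTensorHom_apply] at this
    simpa [g, Fintype.linearCombination_apply] using this
  obtain ⟨l, a, y, hy, ha⟩ := Module.Flat.exists_factorization_of_comp_eq_zero_of_free hg
  have hn : ∀ i, n i = ∑ j, a (Pi.single i 1) j • y (Finsupp.single j 1) := by
    intro i
    have h1 : n i = y (a (Pi.single i 1)) := by
      rw [← LinearMap.comp_apply, ← hy]
      simp [g]
    rw [h1]
    conv_lhs => rw [← Finsupp.univ_sum_single (a (Pi.single i 1))]
    rw [map_sum]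
    exact Finset.sum_congr rfl fun j _ => by rw [← map_smul, Finsupp.smul_single, smul_eq_mul, mul_one]
  simp only [hn, TensorProduct.tmul_sum, ← TensorProduct.smul_tmul]
  rw [Finset.sum_comm]
  refine Finset.sum_eq_zero fun j _ => ?_
  rw [← TensorProduct.sum_tmul]
  refine (congrArg (· ⊗ₜ[k] (y (Finsupp.single j 1))) (?_ : _ = (0 : Module.Dual k M))).trans
    (TensorProduct.zero_tmul _ _)
  refine LinearMap.ext fun m => ?_
  have h2 : a (LinearMap.pi f m) j = 0 := by
    rw [show a (LinearMap.pi f m) = 0 from LinearMap.congr_fun ha m]; rfl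
  have h3 : LinearMap.pi f m = ∑ i, f i m • (Pi.single i 1 : Fin s.card → k) := by
    ext l; simp [Finset.sum_apply, Pi.single_apply]
  rw [h3] at h2
  simpa [mul_comm] using h2

end Flat

section Comod

variable {k : Type u} [CommRing k] {A : Type v} [CommRing A] [HopfAlgebra k A]

/-- A finite projective comodule has a contragredient. -/
theorem exists_dual_of_projective {V : Type w} [AddCommGroup V] [Module k V] [Module.Projective k V]
    [Module.Finite k V] (c : Comod k A V) :
    ∃ d : Comod k A (Module.Dual k V), ComodTens.Comod.IsDual c d := by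
  let e : Module.Dual k V ⊗[k] A ≃ₗ[k] (V →ₗ[k] A) := LinearEquiv.ofBijective _ dualTensorHom_bijective
  let Φ : Module.Dual k V →ₗ[k] V →ₗ[k] A :=
    { toFun := ComodTens.dualCoactFun c
      map_add' := ComodTens.dualCoactFun_add c
      map_smul' := ComodTens.dualCoactFun_smul c }
  let r : Module.Dual k V →ₗ[k] Module.Dual k V ⊗[k] A := e.symm.toLinearMap ∘ₗ Φ
  let S : A →ₗ[k] A := HopfAlgebraStruct.antipode (R := k)
  have hr : ∀ f, dualTensorHom k V A (r f) = ComodTens.dualCoactFun c f := fun f => e.apply_symm_apply (Φ f)
  letI := c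
  have hco := Comod.coassoc (k := k) (A := A) (V := V)
  have hcu := Comod.counit_comp (k := k) (A := A) (V := V)
  have hΔ : ∀ (z : Module.Dual k V ⊗[k] A) (v : V),
      dualTensorHom k V (A ⊗[k] A) ((CoalgebraStruct.comul (R := k)).lTensor _ z) v =
        CoalgebraStruct.comul (R := k) (dualTensorHom k V A z v) := by
    intro z v
    induction z with
    | zero => simp
    | add p q hp hq => simp only [map_add, LinearMap.add_apply, hp, hq]
    | tmul p q => simp
  have hε : ∀ (z : Module.Dual k V ⊗[k] A) (v : V),
      TensorProduct.rid k _ ((CoalgebraStruct.counit (R := k)).lTensor (Module.Dual k V) z) v =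
        CoalgebraStruct.counit (R := k) (dualTensorHom k V A z v) := by
    intro z v
    induction z with
    | zero => simp
    | add p q hp hq => simp only [map_add, LinearMap.add_apply, hp, hq]
    | tmul p q => simp [mul_comm]
  refine ⟨{ coact := r, coassoc := ?_, counit_comp := ?_ }, hr⟩
  · refine LinearMap.ext fun f => dualTensorHom_bijective.1 (LinearMap.ext fun v => ?_)
    simp only [LinearMap.comp_apply, LinearEquiv.coe_coe]
    rw [hΔ, hr]
    have h1 : ∀ z : Module.Dual k V ⊗[k] A,
        dualTensorHom k V (A ⊗[k] A) (TensorProduct.assoc k _ A A (r.rTensor A z)) v =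
          TensorProduct.map S (dualTensorHom k V A z) (TensorProduct.comm k V A (c.coact v)) := by
      intro z
      induction z with
      | zero => simp [TensorProduct.map_zero_right]
      | add p q hp hq =>
        simp only [map_add, LinearMap.add_apply, hp, hq, TensorProduct.map_add_right]
      | tmul φ a =>
        have h2 : ∀ y : Module.Dual k V ⊗[k] A,
            dualTensorHom k V (A ⊗[k] A) (TensorProduct.assoc k _ A A (y ⊗ₜ[k] a)) v =
              dualTensorHom k V A y v ⊗ₜ[k] a := by
          intro y
          induction y with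
          | zero => simp
          | add p q hp hq => simp only [TensorProduct.add_tmul, map_add, LinearMap.add_apply, hp, hq]
          | tmul p q => simp [TensorProduct.smul_tmul']
        rw [LinearMap.rTensor_tmul, h2, hr, ComodTens.dualCoactFun_apply]
        generalize c.coact v = w
        induction w with
        | zero => simp
        | add p q hp hq => simp only [map_add, TensorProduct.add_tmul, hp, hq]
        | tmul p q => simp [S, TensorProduct.tmul_smul, ← TensorProduct.smul_tmul']
    rw [h1, hr, ComodTens.dualCoactFun_apply]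
    let Ψ : V ⊗[k] (A ⊗[k] A) →ₗ[k] A ⊗[k] A := (TensorProduct.lid k _).toLinearMap ∘ₗ
      TensorProduct.map f (TensorProduct.map S S ∘ₗ (TensorProduct.comm k A A).toLinearMap)
    have h3 : ∀ w : V ⊗[k] A, TensorProduct.map S (ComodTens.dualCoactFun c f) (TensorProduct.comm k V A w) =
        Ψ (TensorProduct.assoc k V A A (c.coact.rTensor A w)) := by
      intro w
      induction w with
      | zero => simp
      | add p q hp hq => simp only [map_add, hp, hq]
      | tmul p q =>
        rw [TensorProduct.comm_tmul, TensorProduct.map_tmul, ComodTens.dualCoactFun_apply, LinearMap.rTensor_tmul]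
        generalize c.coact p = y
        induction y with
        | zero => simp
        | add a b ha hb => simp only [map_add, TensorProduct.add_tmul, TensorProduct.tmul_add, ha, hb]
        | tmul a b => simp [Ψ, S, TensorProduct.tmul_smul, ← TensorProduct.smul_tmul']
    rw [h3, show TensorProduct.assoc k V A A (c.coact.rTensor A (c.coact v)) = _ from LinearMap.congr_fun hco v]
    simp only [LinearMap.comp_apply]
    generalize c.coact v = w
    induction w with
    | zero => simp
    | add p q hp hq => simp only [map_add, hp, hq]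
    | tmul p q => simp [Ψ, S, comul_antipode]
  · refine LinearMap.ext fun f => (TensorProduct.rid k _).injective (LinearMap.ext fun v => ?_)
    simp only [LinearMap.comp_apply]
    rw [hε, hr, ComodTens.dualCoactFun_apply]
    have h2 := LinearMap.congr_fun hcu v
    simp only [LinearMap.comp_apply] at h2
    have h3 : ∀ w : V ⊗[k] A,
        CoalgebraStruct.counit (R := k) (TensorProduct.lid k A (TensorProduct.map f S w)) =
          f (TensorProduct.rid k V ((CoalgebraStruct.counit (R := k)).lTensor V w)) := by
      intro w
      induction w with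
      | zero => simp
      | add p q hp hq => simp only [map_add, hp, hq]
      | tmul p q => simp [S, mul_comm]
    rw [h3, h2]
    simp

variable {B : Type w} [AddCommGroup B] [Module k B] {M : Type w'} [AddCommGroup M] [Module k M]

/-- Multiply the last two factors. -/
def mulLast : (B ⊗[k] A) ⊗[k] A →ₗ[k] B ⊗[k] A :=
  (LinearMap.mul' k A).lTensor B ∘ₗ (TensorProduct.assoc k B A A).toLinearMap

theorem mulLast_tmul (b : B) (a a' : A) : mulLast ((b ⊗ₜ[k] a) ⊗ₜ[k] a') = b ⊗ₜ[k] (a * a') := by
  simp [mulLast]

/-- The linear map attached to an element of `B ⊗ M^*`. -/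
def homOf : B ⊗[k] Module.Dual k M →ₗ[k] M →ₗ[k] B :=
  dualTensorHom k M B ∘ₗ (TensorProduct.comm k B (Module.Dual k M)).toLinearMap

/-- An element of `(B ⊗ M^*) ⊗ A` as a map `M → B ⊗ A`. -/
def homOf' : (B ⊗[k] Module.Dual k M) ⊗[k] A →ₗ[k] M →ₗ[k] B ⊗[k] A :=
  dualTensorHom k M (B ⊗[k] A) ∘ₗ (TensorProduct.assoc k (Module.Dual k M) B A).toLinearMap ∘ₗ
    (TensorProduct.comm k B (Module.Dual k M)).toLinearMap.rTensor A

theorem homOf_tmul (b : B) (f : Module.Dual k M) (m : M) : homOf (b ⊗ₜ[k] f) m = f m • b := by simp [homOf]

theorem homOf'_tmul (b : B) (f : Module.Dual k M) (a : A) (m : M) :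
    homOf' ((b ⊗ₜ[k] f) ⊗ₜ[k] a) m = f m • (b ⊗ₜ[k] a) := by simp [homOf']

theorem homOf'_tmul_one (x : B ⊗[k] Module.Dual k M) (m : M) :
    homOf' (x ⊗ₜ[k] (1 : A)) m = homOf x m ⊗ₜ[k] (1 : A) := by
  induction x with
  | zero => simp
  | add p q hp hq => simp only [TensorProduct.add_tmul, map_add, LinearMap.add_apply, hp, hq]
  | tmul p q => simp [homOf_tmul, homOf'_tmul, TensorProduct.smul_tmul']

variable (cB : Comod k A B) (cM : Comod k A M)

/-- `m ↦ ρ (h m₀) (1 ⊗ S m₁)`. -/
def twistHom (h : M →ₗ[k] B) : M →ₗ[k] B ⊗[k] A :=
  mulLast ∘ₗ TensorProduct.map (cB.coact ∘ₗ h) (HopfAlgebraStruct.antipode (R := k)) ∘ₗ cM.coact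

theorem homOf'_coact {d : Comod k A (Module.Dual k M)} (hd : ComodTens.Comod.IsDual cM d)
    (x : B ⊗[k] Module.Dual k M) (m : M) :
    homOf' ((ComodTens.Comod.tensor cB d).coact x) m = twistHom cB cM (homOf x) m := by
  induction x with
  | zero => simp [twistHom, TensorProduct.map_zero_left]
  | add p q hp hq =>
    rw [map_add, map_add, LinearMap.add_apply, hp, hq]
    simp [twistHom, LinearMap.comp_add, TensorProduct.map_add_left]
  | tmul b f =>
    rw [ComodTens.tensor_coact_tmul]
    have h1 : ∀ (z : B ⊗[k] A) (y : Module.Dual k M ⊗[k] A),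
        homOf' (TensorProduct.map LinearMap.id (LinearMap.mul' k A)
          (AlgebraTensorModule.tensorTensorTensorComm k k k k B A (Module.Dual k M) A (z ⊗ₜ[k] y))) m =
          mulLast (z ⊗ₜ[k] dualTensorHom k M A y m) := by
      intro z y
      induction z with
      | zero => simp
      | add p q hp hq => simp only [TensorProduct.add_tmul, map_add, LinearMap.add_apply, hp, hq]
      | tmul p q =>
        induction y with
        | zero => simp
        | add r s hr hs => simp only [TensorProduct.tmul_add, map_add, LinearMap.add_apply, hr, hs]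
        | tmul r s => simp [homOf'_tmul, mulLast_tmul]
    rw [h1, hd f, ComodTens.dualCoactFun_apply]
    simp only [twistHom, LinearMap.comp_apply]
    generalize cM.coact m = w
    induction w with
    | zero => simp
    | add p q hp hq => simp only [map_add, TensorProduct.tmul_add, hp, hq]
    | tmul p q => simp [homOf_tmul, TensorProduct.smul_tmul']

theorem twistHom_iff (h : M →ₗ[k] B) :
    (∀ m, twistHom cB cM h m = h m ⊗ₜ[k] (1 : A)) ↔ @Hoch.IsComodHom k _ A _ _ _ M _ _ cM B _ _ cB h := by
  letI := cM
  constructor
  · intro hh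
    refine LinearMap.ext fun m => ?_
    have h1 : ∀ (g : M →ₗ[k] B ⊗[k] A) (w : (M ⊗[k] A) ⊗[k] A),
        mulLast ((mulLast ∘ₗ TensorProduct.map g (HopfAlgebraStruct.antipode (R := k))).rTensor A w) =
          mulLast (g.rTensor A ((LinearMap.mul' k A ∘ₗ (HopfAlgebraStruct.antipode (R := k) (A := A)).rTensor A).lTensor M
            (TensorProduct.assoc k M A A w))) := by
      intro g w
      induction w with
      | zero => simp
      | add p q hp hq => simp only [map_add, hp, hq]
      | tmul y a =>
        induction y with
        | zero => simp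
        | add p q hp hq => simp only [map_add, TensorProduct.add_tmul, hp, hq]
        | tmul p q =>
          simp only [LinearMap.rTensor_tmul, LinearMap.comp_apply, TensorProduct.map_tmul, TensorProduct.assoc_tmul,
            LinearMap.lTensor_tmul, LinearMap.mul'_apply]
          generalize g p = z
          induction z with
          | zero => simp
          | add r s hr hs => simp only [map_add, TensorProduct.add_tmul, hr, hs]
          | tmul r s => simp [mulLast_tmul, mul_assoc]
    have h2 : mulLast ((twistHom cB cM h).rTensor A (cM.coact m)) = cB.coact (h m) := by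
      rw [show twistHom cB cM h = (mulLast ∘ₗ TensorProduct.map (cB.coact ∘ₗ h)
          (HopfAlgebraStruct.antipode (R := k))) ∘ₗ cM.coact from rfl, LinearMap.rTensor_comp_apply, h1,
        show TensorProduct.assoc k M A A (cM.coact.rTensor A (cM.coact m)) = TensorProduct.assoc k M A A
          ((Comod.coact (k := k) (A := A)).rTensor A (Comod.coact (k := k) (A := A) m)) from rfl,
        Groth.Agent.HopfMod.coact_antipode_left, LinearMap.rTensor_tmul, LinearMap.comp_apply]
      generalize cB.coact (h m) = z
      induction z with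
      | zero => simp
      | add r s hr hs => simp only [map_add, TensorProduct.add_tmul, hr, hs]
      | tmul r s => simp [mulLast_tmul]
    show cB.coact (h m) = h.rTensor A (cM.coact m)
    rw [← h2, show twistHom cB cM h = (TensorProduct.mk k B A).flip 1 ∘ₗ h from LinearMap.ext hh]
    generalize cM.coact m = z
    induction z with
    | zero => simp
    | add r s hr hs => simp only [map_add, hr, hs]
    | tmul r s => simp [mulLast_tmul]
  · intro hh m
    have h1 : ∀ w : (M ⊗[k] A) ⊗[k] A,
        mulLast (TensorProduct.map (h.rTensor A) (HopfAlgebraStruct.antipode (R := k)) w) =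
          h.rTensor A ((LinearMap.mul' k A ∘ₗ (HopfAlgebraStruct.antipode (R := k) (A := A)).lTensor A).lTensor M
            (TensorProduct.assoc k M A A w)) := by
      intro w
      induction w with
      | zero => simp
      | add p q hp hq => simp only [map_add, hp, hq]
      | tmul y a =>
        induction y with
        | zero => simp
        | add p q hp hq => simp only [map_add, TensorProduct.add_tmul, hp, hq]
        | tmul p q => simp [mulLast_tmul]
    rw [twistHom, show cB.coact ∘ₗ h = h.rTensor A ∘ₗ cM.coact from hh, LinearMap.comp_apply, LinearMap.comp_apply]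
    have h3 : ∀ w : M ⊗[k] A, TensorProduct.map (h.rTensor A ∘ₗ cM.coact) (HopfAlgebraStruct.antipode (R := k)) w =
        TensorProduct.map (h.rTensor A) (HopfAlgebraStruct.antipode (R := k)) (cM.coact.rTensor A w) := by
      intro w
      induction w with
      | zero => simp
      | add p q hp hq => simp only [map_add, hp, hq]
      | tmul p q => simp
    rw [h3, h1, show cM.coact.rTensor A (cM.coact m) =
      (Comod.coact (k := k) (A := A)).rTensor A (Comod.coact (k := k) (A := A) m) from rfl,
      Groth.Agent.HopfMod.coact_antipode_right, LinearMap.rTensor_tmul]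

theorem isComodHom_homOf_of_fixed {d : Comod k A (Module.Dual k M)} (hd : ComodTens.Comod.IsDual cM d)
    {x : B ⊗[k] Module.Dual k M} (hx : (ComodTens.Comod.tensor cB d).coact x = x ⊗ₜ[k] (1 : A)) :
    @Hoch.IsComodHom k _ A _ _ _ M _ _ cM B _ _ cB (homOf x) :=
  (twistHom_iff cB cM _).1 fun m => by rw [← homOf'_coact cB cM hd, hx, homOf'_tmul_one]

theorem fixed_of_isComodHom_homOf [Module.Flat k A] [Module.Flat k B] [Module.Finite k M]
    {d : Comod k A (Module.Dual k M)} (hd : ComodTens.Comod.IsDual cM d)
    {x : B ⊗[k] Module.Dual k M} (hx : @Hoch.IsComodHom k _ A _ _ _ M _ _ cM B _ _ cB (homOf x)) :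
    (ComodTens.Comod.tensor cB d).coact x = x ⊗ₜ[k] (1 : A) := by
  have hinj : Function.Injective (homOf' : (B ⊗[k] Module.Dual k M) ⊗[k] A →ₗ[k] M →ₗ[k] B ⊗[k] A) :=
    fun a b h => by
      have := dualTensorHom_injective_of_flat h
      exact ((LinearEquiv.rTensor A (TensorProduct.comm k B (Module.Dual k M))).trans
        (TensorProduct.assoc k (Module.Dual k M) B A)).injective this
  refine hinj (LinearMap.ext fun m => ?_)
  rw [homOf'_coact cB cM hd, (twistHom_iff cB cM _).2 hx m, homOf'_tmul_one]

end Comod

end Groth.Agent.CoalgH23
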