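import Groth.Agent.Lib.CoalgH23.Integral

/-!
# The projection on invariants attached to a right invariant integral
-/

universe u v w w'

open TensorProduct HopfRep WithConv
open scoped Groth.Agent.CoalgH23

noncomputable section

namespace Groth.Agent.CoalgH23

variable {k : Type u} [CommRing k] {A : Type v} [CommRing A] [HopfAlgebra k A]
variable {V : Type w} [AddCommGroup V] [Module k V] [Comod k A V]

/-- A right invariant functional. -/
def IsRightInv (l : A →ₗ[k] k) : Prop := ∀ y, slice l (CoalgebraStruct.comul (R := k) y) = l y • (1 : A)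

theorem isRightInv_comp_antipode {l : A →ₗ[k] k}
    (hl : ∀ y, TensorProduct.lid k A (l.rTensor A (CoalgebraStruct.comul (R := k) y)) = algebraMap k A (l y)) :
    IsRightInv (l ∘ₗ HopfAlgebraStruct.antipode (R := k)) := by
  intro y
  have h : ∀ z : A ⊗[k] A, TensorProduct.lid k A (l.rTensor A (TensorProduct.map (HopfAlgebraStruct.antipode (R := k))
      (HopfAlgebraStruct.antipode (R := k)) (TensorProduct.comm k A A z))) =
      HopfAlgebraStruct.antipode (R := k) (slice (l ∘ₗ HopfAlgebraStruct.antipode (R := k)) z) := by
    intro z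
    induction z with
    | zero => simp
    | add a b ha hb => simp only [map_add, ha, hb]
    | tmul a b => simp [slice, map_smul]
  have h2 := hl (HopfAlgebraStruct.antipode (R := k) y)
  rw [comul_antipode, h] at h2
  have := congrArg (HopfAlgebraStruct.antipode (R := k)) h2
  rw [antipode_antipode] at this
  rw [this, Algebra.algebraMap_eq_smul_one, map_smul, HopfAlgebra.antipode_one]
  rfl

theorem actL_mem_fixedPts {k : Type u} [Field k] {A : Type v} [CommRing A] [HopfAlgebra k A]
    {V : Type w} [AddCommGroup V] [Module k V] [Comod k A V] {l : A →ₗ[k] k} (hl : IsRightInv l) (v : V) :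
    actL l v ∈ fixedPts k A V := by
  refine mem_fixedPts_iff.2 fun ψ => ?_
  have h : (toConv ψ * toConv l : WithConv (A →ₗ[k] k)) = ψ 1 • toConv l := by
    apply WithConv.ofConv_injective
    refine LinearMap.ext fun c => ?_
    rw [LinearMap.convMul_apply]
    have : ∀ z : A ⊗[k] A, LinearMap.mul' k k (TensorProduct.map ψ l z) = ψ (slice l z) := by
      intro z
      induction z with
      | zero => simp
      | add a b ha hb => simp only [map_add, ha, hb]
      | tmul a b => simp [slice, mul_comm]
    rw [this, hl, map_smul]
    simp [mul_comm]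
  calc actL ψ (actL l v) = (toConv ψ * toConv l : WithConv (A →ₗ[k] k)) • v := (mul_smul (toConv ψ) (toConv l) v).symm
    _ = ψ 1 • actL l v := by rw [h, smul_assoc]; rfl

theorem actL_of_fixed {l : A →ₗ[k] k} (h1 : l 1 = 1) {v : V} (hv : v ∈ fixedPts k A V) : actL l v = v := by
  show slice l _ = _
  rw [show Comod.coact (k := k) (A := A) v = v ⊗ₜ[k] (1 : A) from hv]
  simp [slice, h1]

theorem slice_smul {A' : Type w'} [CommRing A'] [Algebra k A'] [Module A' V] [IsScalarTower k A' V]
    (l : A →ₗ[k] k) (a : A') (z : V ⊗[k] A) : slice l (a • z) = a • slice l z := by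
  induction z with
  | zero => simp
  | add p q hp hq => simp only [smul_add, map_add, hp, hq]
  | tmul p q => simp [slice, TensorProduct.smul_tmul', smul_comm a (l q) p]

theorem exists_right_integral {k : Type u} [Field k] {A : Type v} [CommRing A] [HopfAlgebra k A]
    (hred : IsLinearlyReductive k A) : ∃ l : A →ₗ[k] k, l 1 = 1 ∧ IsRightInv l := by
  obtain ⟨l, h1, hl⟩ := HopfMod.exists_integral hred
  exact ⟨l ∘ₗ HopfAlgebraStruct.antipode (R := k), by simp [HopfAlgebra.antipode_one, h1], isRightInv_comp_antipode hl⟩

end Groth.Agent.CoalgH23
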