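import Groth.Agent.Lib.CoalgH23.Coef
import Groth.Agent.Lib.CoalgH23.Simple
import Groth.Prelude.Def_ComodSub
import Mathlib.RingTheory.HopfAlgebra.Quotient

/-!
# Composition series of trigonalizable and unipotent groups
-/

universe u v w

open TensorProduct HopfRep WithConv
open scoped Groth.Agent.CoalgH23

noncomputable section

namespace Groth.Agent.CoalgH23

variable {k : Type u} [Field k] {A : Type v} [CommRing A] [HopfAlgebra k A]

section Quot

variable {V : Type v} [AddCommGroup V] [Module k V] [Comod k A V]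

/-- Between two consecutive subcomodules of a trigonalizable group the dimension goes up by one. -/
theorem finrank_eq_succ_of_covBy (hT : IsTrigonalizable k A) {L' L : Submodule k V} [FiniteDimensional k L]
    (hL' : IsSubcomod (k := k) (A := A) L') (hL : IsSubcomod (k := k) (A := A) L) (hlt : L' < L)
    (hmax : ∀ M, IsSubcomod (k := k) (A := A) M → L' ≤ M → M ≤ L → M = L' ∨ M = L) :
    Module.finrank k L = Module.finrank k L' + 1 := by
  classical
  letI : Comod k A (V ⧸ L') := ComodSub.Comod.quot inferInstance L' hL'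
  have hq : Hoch.IsComodHom A L'.mkQ := ComodSub.isComodHom_mkQ inferInstance L' hL'
  have himg : IsSubcomod (k := k) (A := A) (L.map L'.mkQ) := by
    refine isSubcomod_iff.2 ?_
    rintro χ _ ⟨x, hx, rfl⟩
    exact ⟨χ • x, isSubcomod_iff.1 hL χ x hx, isComodHom_iff.1 hq χ x⟩
  let M := ofSub _ himg
  have hne : L.map L'.mkQ ≠ ⊥ := fun e => hlt.not_ge fun x hx => by
    have : L'.mkQ x ∈ L.map L'.mkQ := ⟨x, hx, rfl⟩
    rw [e, Submodule.mem_bot] at this
    exact (Submodule.Quotient.mk_eq_zero L').1 this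
  have hM : IsSimpleModule (WithConv (A →ₗ[k] k)) M := by
    refine (isSimpleModule_iff_minimal M).2 ⟨hne, fun W' hW' hle => ?_⟩
    have hpre : IsSubcomod (k := k) (A := A) (W'.comap L'.mkQ ⊓ L) := isSubcomod_iff.2 fun χ x hx =>
      ⟨by
        show L'.mkQ (χ • x) ∈ W'
        rw [isComodHom_iff.1 hq]
        exact isSubcomod_iff.1 hW' χ _ hx.1, isSubcomod_iff.1 hL χ x hx.2⟩
    rcases hmax _ hpre (le_inf (fun x hx => by
        show L'.mkQ x ∈ W'
        rw [Submodule.mkQ_apply, (Submodule.Quotient.mk_eq_zero L').2 hx]; exact zero_mem _) hlt.le)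
      inf_le_right with e | e
    · left
      rw [eq_bot_iff]
      intro y hy
      obtain ⟨x, hx, rfl⟩ := hle hy
      rw [Submodule.mem_bot, Submodule.mkQ_apply, Submodule.Quotient.mk_eq_zero, ← e]
      exact ⟨hy, hx⟩
    · right
      refine le_antisymm hle ?_
      rintro _ ⟨x, hx, rfl⟩
      exact (e.ge hx).1
  letI := subComod M
  have hfin : Module.Finite k (L.map L'.mkQ) := inferInstance
  have h1 : Module.finrank k (L.map L'.mkQ) = 1 :=
    hT (M.restrictScalars k) hfin (isSimpleComod_subComod M hM)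
  have h2 := (L'.mkQ.domRestrict L).finrank_range_add_finrank_ker
  rw [LinearMap.range_domRestrict, h1, LinearMap.ker_domRestrict, Submodule.ker_mkQ,
    LinearEquiv.finrank_eq (Submodule.comapSubtypeEquivOfLe hlt.le)] at h2
  omega

/-- A non-zero finite subcomodule of a unipotent group has a non-zero fixed vector modulo any smaller subcomodule. -/
theorem exists_fixed_mod (hU : IsUnipotent k A) {L' L : Submodule k V} [FiniteDimensional k L]
    (hL' : IsSubcomod (k := k) (A := A) L') (hL : IsSubcomod (k := k) (A := A) L) (hlt : ¬ L ≤ L') :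
    ∃ v ∈ L, v ∉ L' ∧ Comod.coact (k := k) (A := A) v - v ⊗ₜ[k] (1 : A) ∈ LinearMap.range (L'.subtype.rTensor A) := by
  classical
  letI : Comod k A (V ⧸ L') := ComodSub.Comod.quot inferInstance L' hL'
  have hq : Hoch.IsComodHom A L'.mkQ := ComodSub.isComodHom_mkQ inferInstance L' hL'
  have himg : IsSubcomod (k := k) (A := A) (L.map L'.mkQ) := by
    refine isSubcomod_iff.2 ?_
    rintro χ _ ⟨x, hx, rfl⟩
    exact ⟨χ • x, isSubcomod_iff.1 hL χ x hx, isComodHom_iff.1 hq χ x⟩
  have hne : L.map L'.mkQ ≠ ⊥ := fun e => hlt fun x hx => by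
    have : L'.mkQ x ∈ L.map L'.mkQ := ⟨x, hx, rfl⟩
    rw [e, Submodule.mem_bot] at this
    exact (Submodule.Quotient.mk_eq_zero L').1 this
  let c : Comod k A (V ⧸ L') := inferInstance
  letI : Comod k A (L.map L'.mkQ) := ComodSub.Comod.restr c _ himg
  have : Nontrivial (L.map L'.mkQ) := Submodule.nontrivial_iff_ne_bot.2 hne
  obtain ⟨⟨w, hw⟩, hwf, hw0⟩ := (Submodule.ne_bot_iff _).1 (hU (L.map L'.mkQ) inferInstance this)
  obtain ⟨x, hx, rfl⟩ := hw
  refine ⟨x, hx, fun h => hw0 (Subtype.ext ((Submodule.Quotient.mk_eq_zero L').2 h)), ?_⟩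
  have h1 := ComodSub.restr_coact_coe c _ himg ⟨L'.mkQ x, ⟨x, hx, rfl⟩⟩
  rw [show (ComodSub.Comod.restr c _ himg).coact ⟨L'.mkQ x, ⟨x, hx, rfl⟩⟩ = _ from hwf] at h1
  refine (rTensor_exact A (LinearMap.exact_subtype_mkQ L') L'.mkQ_surjective _).1 ?_
  rw [map_sub, sub_eq_zero, LinearMap.rTensor_tmul]
  exact h1.symm

end Quot

end Groth.Agent.CoalgH23

namespace Groth.Agent.CoalgH23

theorem exists_dual_ne_zero {k : Type u} [Field k] {V : Type v} [AddCommGroup V] [Module k V] {x : V} (hx : x ≠ 0) :
    ∃ φ : V →ₗ[k] k, φ x ≠ 0 := by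
  by_contra h
  push_neg at h
  exact hx ((Module.forall_dual_apply_eq_zero_iff k x).1 h)

theorem comul_mk {k : Type u} [Field k] {A : Type v} [CommRing A] [HopfAlgebra k A] (I : Ideal A) [I.IsHopfIdeal k]
    (a : A) : CoalgebraStruct.comul (R := k) ((Ideal.Quotient.mkₐ k I).toLinearMap a) =
      TensorProduct.map (Ideal.Quotient.mkₐ k I).toLinearMap (Ideal.Quotient.mkₐ k I).toLinearMap
        (CoalgebraStruct.comul (R := k) a) := rfl

/-- Matrix coefficients commute with the action of the dual algebra. -/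
theorem lslice_coact_smul {k : Type u} [Field k] {A : Type v} [AddCommGroup A] [Module k A] [Coalgebra k A]
    {V : Type w} [AddCommGroup V] [Module k V] [Comod k A V] (φ : V →ₗ[k] k) (χ : WithConv (A →ₗ[k] k)) (v : V) :
    lslice φ (Comod.coact (k := k) (A := A) (χ • v)) =
      slice χ.ofConv (CoalgebraStruct.comul (R := k) (lslice φ (Comod.coact (k := k) (A := A) v))) := by
  have hc := LinearMap.congr_fun (Comod.coassoc (k := k) (A := A) (V := V)) v
  simp only [LinearMap.comp_apply, LinearEquiv.coe_coe] at hc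
  have h1 : ∀ w : V ⊗[k] A, slice χ.ofConv (CoalgebraStruct.comul (R := k) (lslice φ w)) =
      lslice φ ((slice χ.ofConv).lTensor V ((CoalgebraStruct.comul (R := k)).lTensor V w)) := by
    intro w
    induction w with
    | zero => simp
    | add p q hp hq => simp only [map_add, hp, hq]
    | tmul p q => simp [lslice]
  rw [h1, ← hc, smul_def]
  generalize Comod.coact (k := k) (A := A) v = w
  induction w with
  | zero => simp
  | add p q hp hq => simp only [map_add, hp, hq]
  | tmul p q =>
    simp only [LinearMap.rTensor_tmul, slice, LinearMap.comp_apply, LinearMap.lTensor_tmul, LinearEquiv.coe_coe,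
      TensorProduct.rid_tmul, map_smul]
    generalize Comod.coact (k := k) (A := A) p = y
    induction y with
    | zero => simp
    | add a b ha hb => simp only [TensorProduct.add_tmul, map_add, smul_add, ha, hb]
    | tmul a b => simp [lslice, TensorProduct.tmul_smul, smul_smul, mul_comm]

end Groth.Agent.CoalgH23
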